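import Cfsg.Agent.Known.RegularProduct.Step

/-!
A matrix of determinant one which is not a rank one change of a scalar is similar to a product of
a regular lower and a regular upper unitriangular matrix.
-/

set_option autoImplicit false
set_option linter.style.haveILetI false
set_option maxHeartbeats 1000000

namespace Cfsg.Lib.RegularProduct

open Matrix Polynomial

variable {F : Type*} [Field F] {m k : ℕ}

/-- Not a rank one change of a scalar. -/
def Big (R : Matrix (Fin m) (Fin m) F) : Prop :=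
  ∀ (μ : F) (u f : Fin m → F), R ≠ μ • (1 : Matrix (Fin m) (Fin m) F) + vecMulVec u f

/-- The range of `A - ν`. -/
abbrev Rg (A : Matrix (Fin m) (Fin m) F) (ν : F) : Submodule F (Fin m → F) :=
  LinearMap.range (A - ν • (1 : Matrix (Fin m) (Fin m) F)).mulVecLin

/-- The eigenspace. -/
abbrev Ker (A : Matrix (Fin m) (Fin m) F) (ν : F) : Submodule F (Fin m → F) :=
  LinearMap.ker (A - ν • (1 : Matrix (Fin m) (Fin m) F)).mulVecLin

theorem mem_ker {A : Matrix (Fin m) (Fin m) F} {ν : F} {x : Fin m → F} : x ∈ Ker A ν ↔ A *ᵥ x = ν • x := by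
  rw [LinearMap.mem_ker, mulVecLin_apply, sub_mulVec, smul_mulVec, one_mulVec, sub_eq_zero]

theorem mem_rg (A : Matrix (Fin m) (Fin m) F) (ν : F) (x : Fin m → F) : A *ᵥ x - ν • x ∈ Rg A ν :=
  ⟨x, by rw [mulVecLin_apply, sub_mulVec, smul_mulVec, one_mulVec]⟩

theorem rg_add_ker (A : Matrix (Fin m) (Fin m) F) (ν : F) :
    Module.finrank F (Rg A ν) + Module.finrank F (Ker A ν) = m := by
  rw [LinearMap.finrank_range_add_finrank_ker, Module.finrank_fin_fun]

theorem two_le_rg {A : Matrix (Fin m) (Fin m) F} (h : Big A) (ν : F) : 2 ≤ Module.finrank F (Rg A ν) := by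
  by_contra hc
  obtain ⟨v, hv⟩ := finrank_le_one_iff.1 (show Module.finrank F (Rg A ν) ≤ 1 by omega)
  choose c hc' using fun j => hv ⟨(A - ν • (1 : Matrix (Fin m) (Fin m) F)) *ᵥ Pi.single j 1, ⟨_, rfl⟩⟩
  refine h ν v.1 c (eq_add_of_sub_eq' (Matrix.ext fun i j => ?_))
  have := congrFun (congrArg Subtype.val (hc' j)) i
  simp only [SetLike.val_smul, Pi.smul_apply, smul_eq_mul] at this
  rw [vecMulVec_apply, mul_comm, this, mulVec_single_one]
  rfl

theorem big_inv {R : Matrix (Fin m) (Fin m) F} (hm : 2 ≤ m) (hR : R.det = 1) (h : Big R) : Big R⁻¹ := by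
  haveI : Nontrivial (Fin m) := Fin.nontrivial_iff_two_le.2 hm
  intro μ u f hμ
  have hu : IsUnit R.det := by rw [hR]; exact isUnit_one
  have hμ0 : μ ≠ 0 := by
    rintro rfl
    rw [zero_smul, zero_add] at hμ
    have h1 := congrArg Matrix.det (nonsing_inv_mul R hu)
    rw [hμ, det_mul, det_vecMulVec, zero_mul, det_one] at h1
    exact zero_ne_one h1
  have h1 := mul_nonsing_inv R hu
  rw [hμ, mul_add, mul_smul_comm, mul_one, mul_vecMulVec] at h1
  refine h μ⁻¹ (-μ⁻¹ • (R *ᵥ u)) f ?_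
  have h2 : μ • R = 1 - vecMulVec (R *ᵥ u) f := eq_sub_of_add_eq h1
  calc R = μ⁻¹ • (μ • R) := by rw [smul_smul, inv_mul_cancel₀ hμ0, one_smul]
    _ = _ := by rw [h2, smul_sub, smul_vecMulVec, neg_smul, sub_eq_add_neg]

theorem aeval_X_sub (R : Matrix (Fin m) (Fin m) F) (ν : F) :
    aeval R (X - Polynomial.C ν) = R - ν • (1 : Matrix (Fin m) (Fin m) F) := by
  simp [Algebra.algebraMap_eq_smul_one]

theorem eigen_inv {R : Matrix (Fin m) (Fin m) F} (hu : IsUnit R.det) {x : Fin m → F} {ν : F} (hx : x ≠ 0)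
    (h : R⁻¹ *ᵥ x = ν • x) : ν ≠ 0 ∧ R *ᵥ x = ν⁻¹ • x := by
  have h1 : x = ν • (R *ᵥ x) := by
    have := congrArg (fun w => R *ᵥ w) h
    simpa [mulVec_mulVec, mul_nonsing_inv R hu, mulVec_smul] using this
  have hν : ν ≠ 0 := fun e => hx (by rw [h1, e, zero_smul])
  exact ⟨hν, by conv_rhs => rw [h1, smul_smul, inv_mul_cancel₀ hν, one_smul]⟩

/-- A vector of full order is in no proper image `(R⁻¹ - ν)`. -/
theorem not_mem_rg {R : Matrix (Fin m) (Fin m) F} (hu : IsUnit R.det) {e : Fin m → F}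
    (he : Full R e) {ν : F} (hlt : Module.finrank F (Rg R⁻¹ ν) < m) : e ∉ Rg R⁻¹ ν := by
  rintro ⟨v, hv⟩
  rw [mulVecLin_apply, sub_mulVec, smul_mulVec, one_mulVec] at hv
  have hK : Ker R⁻¹ ν ≠ ⊥ := fun h => by
    have := rg_add_ker R⁻¹ ν
    rw [h, finrank_bot] at this
    omega
  obtain ⟨x, hxK, hx⟩ := Submodule.exists_mem_ne_zero_of_ne_bot hK
  obtain ⟨hν, hRx⟩ := eigen_inv hu hx (mem_ker.1 hxK)
  have hint : IsIntegral F R := Algebra.IsIntegral.isIntegral R
  have hroot : (minpoly F R).IsRoot ν⁻¹ := by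
    have h := aeval_mulVec_eigen R hRx (minpoly F R)
    rw [minpoly.aeval, zero_mulVec] at h
    exact (smul_eq_zero.1 h.symm).resolve_right hx
  obtain ⟨q, hq⟩ := dvd_iff_isRoot.2 hroot
  have hw : aeval R (minpoly F R) = aeval R q * (R - ν⁻¹ • (1 : Matrix _ _ F)) := by
    conv_lhs => rw [hq, mul_comm]
    rw [map_mul, aeval_X_sub]
  have he2 : e = (R - ν⁻¹ • (1 : Matrix _ _ F)) *ᵥ (-ν • (R⁻¹ *ᵥ v)) := by
    rw [← hv, sub_mulVec, smul_mulVec, one_mulVec, mulVec_smul, mulVec_mulVec, mul_nonsing_inv R hu, one_mulVec,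
      smul_smul, mul_neg, inv_mul_cancel₀ hν]
    simp only [neg_smul, one_smul]
    abel
  have hq0 : aeval R q *ᵥ e = 0 := by
    rw [he2, mulVec_mulVec, ← hw, minpoly.aeval, zero_mulVec]
  have hdvd := minpoly.dvd F R (he q hq0)
  have hqne : q ≠ 0 := fun h => minpoly.ne_zero hint (by rw [hq, h, mul_zero])
  have hdeg := natDegree_le_of_dvd hdvd hqne
  rw [hq, natDegree_mul (X_sub_C_ne_zero _) hqne, natDegree_X_sub_C] at hdeg
  omega

theorem finrank_span_three (a b c : Fin m → F) : Module.finrank F (Submodule.span F ({a, b, c} : Set (Fin m → F))) ≤ 3 := by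
  classical
  have h := finrank_span_finset_le_card (R := F) ({a, b, c} : Finset (Fin m → F))
  rw [Set.finrank, Finset.coe_insert, Finset.coe_insert, Finset.coe_singleton] at h
  exact h.trans Finset.card_le_three

theorem finrank_span_two (a b : Fin m → F) : Module.finrank F (Submodule.span F ({a, b} : Set (Fin m → F))) ≤ 2 := by
  classical
  have h := finrank_span_finset_le_card (R := F) ({a, b} : Finset (Fin m → F))
  rw [Set.finrank, Finset.coe_insert, Finset.coe_singleton] at h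
  exact h.trans Finset.card_le_two

/-- The next matrix cannot be a rank one change of a scalar. -/
theorem key_false {R : Matrix (Fin m) (Fin m) F} (hR : R.det = 1) (hBig : Big R) {e φ z : Fin m → F}
    {ν : F} (he : Full R e) (hφe : φ ⬝ᵥ e = 1)
    (hk : 4 ≤ m ∨ (m = 3 ∧ z = 0))
    (hT : 4 ≤ m → Module.finrank F (Rg R⁻¹ ν) ≤ 2 → ∃ x ∈ Ker R⁻¹ ν, φ ⬝ᵥ x ≠ 0)
    (hkey : ∀ x, φ ⬝ᵥ x = 0 → R⁻¹ *ᵥ x - ν • x ∈ Submodule.span F {e, z}) : False := by
  have hu : IsUnit R.det := by rw [hR]; exact isUnit_one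
  have h2 := two_le_rg (big_inv (by rcases hk with hk | hk <;> omega) hR hBig) ν
  set Ne := R⁻¹ *ᵥ e - ν • e with hNe
  have hsub : ∀ S : Submodule F (Fin m → F), e ∈ S → z ∈ S → Ne ∈ S → Rg R⁻¹ ν ≤ S := by
    intro S he' hz' hNe'
    rintro _ ⟨x, rfl⟩
    rw [mulVecLin_apply, sub_mulVec, smul_mulVec, one_mulVec]
    have h := hkey (x - (φ ⬝ᵥ x) • e) (by rw [dotProduct_sub, dotProduct_smul, hφe, smul_eq_mul, mul_one, sub_self])
    have h' : R⁻¹ *ᵥ x - ν • x = (R⁻¹ *ᵥ (x - (φ ⬝ᵥ x) • e) - ν • (x - (φ ⬝ᵥ x) • e)) + (φ ⬝ᵥ x) • Ne := by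
      rw [hNe, mulVec_sub, mulVec_smul, smul_sub, smul_sub, smul_comm ν]; abel
    rw [h']
    refine S.add_mem ?_ (S.smul_mem _ hNe')
    exact (Submodule.span_le.2 (by simp [Set.insert_subset_iff, he', hz'])) h
  rcases hk with hk | ⟨rfl, rfl⟩
  · have hle := hsub (Submodule.span F {e, Ne, z}) (Submodule.subset_span (by simp)) (Submodule.subset_span (by simp))
      (Submodule.subset_span (by simp))
    have h3 := (Submodule.finrank_mono hle).trans (finrank_span_three e Ne z)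
    rcases Nat.lt_or_ge (Module.finrank F (Rg R⁻¹ ν)) 3 with hlt | hge
    · obtain ⟨x, hx, hx0⟩ := hT hk (by omega)
      have hNe' : Ne ∈ Submodule.span F {e, z} := by
        have h := hkey (e - (φ ⬝ᵥ x)⁻¹ • x) (by
          rw [dotProduct_sub, dotProduct_smul, hφe, smul_eq_mul, inv_mul_cancel₀ hx0, sub_self])
        rw [mulVec_sub, mulVec_smul, mem_ker.1 hx, smul_sub ν e, smul_comm ν, sub_sub_sub_cancel_right] at h
        exact h
      have hle' := hsub (Submodule.span F {e, z}) (Submodule.subset_span (by simp)) (Submodule.subset_span (by simp)) hNe'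
      have heq := Submodule.eq_of_le_of_finrank_le hle' ((finrank_span_two e z).trans h2)
      exact not_mem_rg hu he (by omega) (heq ▸ Submodule.subset_span (by simp))
    · have heq := Submodule.eq_of_le_of_finrank_le hle ((finrank_span_three e Ne z).trans hge)
      exact not_mem_rg hu he (by omega) (heq ▸ Submodule.subset_span (by simp))
  · have hle := hsub (Submodule.span F {e, Ne}) (Submodule.subset_span (by simp)) (Submodule.zero_mem _)
      (Submodule.subset_span (by simp))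
    have h3 := (Submodule.finrank_mono hle).trans (finrank_span_two e Ne)
    have heq := Submodule.eq_of_le_of_finrank_le hle ((finrank_span_two e Ne).trans h2)
    exact not_mem_rg hu he (by omega) (heq ▸ Submodule.subset_span (by simp))

theorem exists_not_mem_line {S : Submodule F (Fin m → F)} (hS : 2 ≤ Module.finrank F S) (w : Fin m → F) :
    ∃ v ∈ S, v ∉ Submodule.span F {w} := by
  by_contra hc
  push Not at hc
  have h1 := Submodule.finrank_mono (show S ≤ Submodule.span F {w} from hc)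
  have h2 : Module.finrank F (Submodule.span F ({w} : Set (Fin m → F))) ≤ 1 := by
    refine (finrank_span_le_card ({w} : Set (Fin m → F))).trans ?_
    simp
  omega

/-- A good first vector. -/
theorem exists_vector (hF : Four F) (R : Matrix (Fin m) (Fin m) F) (hns : ∀ μ : F, R ≠ μ • (1 : Matrix _ _ F))
    (h1 : 2 ≤ Module.finrank F (Rg R 1)) {b c : Fin m → F} (hb : b ≠ 0) (hc : c ≠ 0) :
    ∃ e, Full R e ∧ b ⬝ᵥ e ≠ 0 ∧ R *ᵥ e ≠ e ∧ e ∉ Submodule.span F {R *ᵥ e - e} ∧ c ∉ Submodule.span F {R *ᵥ e - e} := by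
  classical
  obtain ⟨m, rfl⟩ : ∃ m', m = m' + 1 := ⟨m - 1, by have := rg_add_ker R 1; omega⟩
  set W := (Submodule.span F ({c} : Set (Fin (m + 1) → F))).comap (R - (1 : F) • (1 : Matrix _ _ F)).mulVecLin
  obtain ⟨v, hv⟩ : ∃ v, v ∉ W := by
    by_contra hall
    push Not at hall
    obtain ⟨u, hu, hu'⟩ := exists_not_mem_line h1 c
    obtain ⟨x, rfl⟩ := hu
    exact hu' (hall x)
  obtain ⟨g, hgv, hgW⟩ := exists_sep hv
  have hg : g ≠ 0 := fun e => hgv (by rw [e, zero_dotProduct])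
  obtain ⟨e, he, hbe, hge⟩ := exists_full hF R b g hb hg
  have he0 : e ≠ 0 := fun h => hbe (by rw [h, dotProduct_zero])
  have hne : ∀ l : F, R *ᵥ e ≠ l • e := by
    intro l h
    refine hns l (sub_eq_zero.1 ?_)
    rw [← aeval_X_sub]
    refine he _ ?_
    rw [aeval_X_sub, sub_mulVec, smul_mulVec, one_mulVec, h, sub_self]
  have hw : R *ᵥ e ≠ e := fun h => hne 1 (by rw [one_smul, h])
  refine ⟨e, he, hbe, hw, fun h => ?_, fun h => ?_⟩
  · obtain ⟨a, ha⟩ := Submodule.mem_span_singleton.1 h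
    have ha0 : a ≠ 0 := fun h0 => he0 (by rw [← ha, h0, zero_smul])
    refine hne (a⁻¹ + 1) ?_
    rw [add_smul, one_smul]
    nth_rw 2 [← ha]
    rw [smul_smul, inv_mul_cancel₀ ha0, one_smul, sub_add_cancel]
  · obtain ⟨a, ha⟩ := Submodule.mem_span_singleton.1 h
    have ha0 : a ≠ 0 := fun h0 => hc (by rw [← ha, h0, zero_smul])
    refine hge (hgW e ?_)
    rw [Submodule.mem_comap, mulVecLin_apply, sub_mulVec, smul_mulVec, one_mulVec, one_smul, Submodule.mem_span_singleton]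
    exact ⟨a⁻¹, by rw [← ha, smul_smul, inv_mul_cancel₀ ha0, one_smul]⟩

theorem ne_scalar {R : Matrix (Fin m) (Fin m) F} (h : Big R) (μ : F) : R ≠ μ • (1 : Matrix (Fin m) (Fin m) F) := fun e =>
  h μ 0 0 (by simp [e])

/-- In dimension three the minimal polynomial has degree three. -/
theorem no_quadratic {R : Matrix (Fin 3) (Fin 3) F} (h : Big R) (a : F) (h0 : aeval R (X ^ 2 - Polynomial.C a * X + 1) = 0) : False := by
  set q : F[X] := X ^ 2 - Polynomial.C a * X + 1 with hq_def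
  have hqd : q.natDegree = 2 := by rw [hq_def]; compute_degree!
  have hqm : q.Monic := by rw [hq_def]; monicity!
  have hcd : R.charpoly.natDegree = 3 := by rw [charpoly_natDegree_eq_dim]; simp
  by_cases hirr : Irreducible R.charpoly
  · have hass : Associated (minpoly F R) R.charpoly := by
      obtain ⟨t, ht⟩ := minpoly.dvd F R (aeval_self_charpoly R)
      exact ⟨((hirr.isUnit_or_isUnit ht).resolve_left (minpoly.not_isUnit F R)).unit, by rw [IsUnit.unit_spec, ht]⟩
    have h1 := natDegree_le_of_dvd (minpoly.dvd F R h0) hqm.ne_zero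
    rw [natDegree_eq_of_degree_eq (degree_eq_degree_of_associated hass), hcd, hqd] at h1
    omega
  · have hr : R.charpoly.roots ≠ 0 := fun hroots => hirr
      ((Polynomial.Monic.irreducible_iff_roots_eq_zero_of_degree_le_three (charpoly_monic R) (by omega) (by omega)).2 hroots)
    obtain ⟨ν, hν⟩ := Multiset.exists_mem_of_ne_zero hr
    have hν' : R.charpoly.eval ν = 0 := (mem_roots (charpoly_monic R).ne_zero).1 hν
    rw [eval_charpoly, ← exists_mulVec_eq_zero_iff] at hν'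
    obtain ⟨x, hx, hx0⟩ := hν'
    rw [scalar_apply, sub_mulVec, ← smul_one_eq_diagonal, smul_mulVec, one_mulVec, sub_eq_zero] at hx0
    have hev := aeval_mulVec_eigen R hx0.symm q
    rw [h0, zero_mulVec] at hev
    have hq0 := (smul_eq_zero.1 hev.symm).resolve_right hx
    simp only [hq_def, eval_add, eval_sub, eval_pow, eval_X, eval_mul, eval_C, eval_one] at hq0
    have hfac : q = (X - Polynomial.C ν) * (X - Polynomial.C (a - ν)) := by
      have : Polynomial.C ν * Polynomial.C (a - ν) = 1 := by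
        rw [← Polynomial.C_mul, show ν * (a - ν) = 1 by linear_combination -hq0, Polynomial.C_1]
      rw [hq_def, ← this, Polynomial.C_sub]
      ring
    rw [hfac, map_mul, aeval_X_sub, aeval_X_sub] at h0
    have hle : Rg R (a - ν) ≤ Ker R ν := by
      rintro _ ⟨v, rfl⟩
      rw [LinearMap.mem_ker, mulVecLin_apply, mulVecLin_apply, mulVec_mulVec, h0, zero_mulVec]
    have := Submodule.finrank_mono hle
    have := rg_add_ker R ν
    have := two_le_rg h ν
    have := two_le_rg h (a - ν)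
    omega

theorem dot_moves {R : Matrix (Fin m) (Fin m) F} {φ x : Fin m → F} (h : φ ⬝ᵥ (R *ᵥ x) ≠ φ ⬝ᵥ x) : φ ᵥ* R ≠ φ :=
  fun e => h (by rw [dotProduct_mulVec, e])

theorem moves_of_rg {R : Matrix (Fin m) (Fin m) F} {φ v : Fin m → F} (hv : v ∈ Rg R 1) (hφ : φ ⬝ᵥ v ≠ 0) : φ ᵥ* R ≠ φ := by
  obtain ⟨x, rfl⟩ := hv
  rw [mulVecLin_apply, sub_mulVec, smul_mulVec, one_mulVec, one_smul, dotProduct_sub, sub_ne_zero] at hφ
  exact dot_moves hφ

theorem lu_one (R : Matrix (Fin 1) (Fin 1) F) (hR : R.det = 1) (c b : Fin 1 → F) (hc : c ≠ 0) (hb : b ≠ 0) : LU R c b := by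
  have h1 : ∀ v : Fin 1 → F, v ≠ 0 → v 0 ≠ 0 := fun v hv h => hv (funext fun i => by rw [Fin.fin_one_eq_zero i, h]; rfl)
  refine ⟨1, 1, 1, ?_, ?_, ?_, ?_, ?_⟩
  · intro i j
    refine ⟨fun h => ?_, by simp, fun h => ?_⟩ <;> omega
  · show Lrg _
    intro i j
    refine ⟨fun h => ?_, by simp, fun h => ?_⟩ <;> omega
  · rw [det_fin_one] at hR
    simp only [Units.val_one, inv_one, one_mul, mul_one]
    exact Matrix.ext fun i j => by rw [Fin.fin_one_eq_zero i, Fin.fin_one_eq_zero j, hR, Matrix.one_apply_eq]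
  · simpa using h1 c hc
  · simpa using h1 b hb

/-- Dimension two. -/
theorem lu_two (hF : Four F) (R : Matrix (Fin 2) (Fin 2) F) (hR : R.det = 1) (hns : ∀ μ : F, R ≠ μ • (1 : Matrix _ _ F))
    (hfix : ∀ x, R *ᵥ x = x → x = 0) (b c : Fin 2 → F) (hb : b ≠ 0) (hc : c ≠ 0) : LU R c b := by
  have h1 : 2 ≤ Module.finrank F (Rg R 1) := by
    have hK : Ker R 1 = ⊥ := eq_bot_iff.2 fun x hx => by
      rw [Submodule.mem_bot]; exact hfix x (by rw [mem_ker.1 hx, one_smul])
    have := rg_add_ker R 1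
    rw [hK, finrank_bot] at this
    omega
  obtain ⟨e, he, hbe, hw, hew, hcw⟩ := exists_vector hF R hns h1 hb hc
  obtain ⟨v, hv, hvw⟩ := exists_not_mem_line h1 (R *ᵥ e - e)
  obtain ⟨φ, hφe, hφw, hφc, hφv, -⟩ := exists_affine hF hew c v v hcw hvw hvw
  rw [dotProduct_sub, sub_eq_zero, hφe] at hφw
  obtain ⟨R', c', b', hd, hc', hb', hglue, -⟩ := reduce (k := 0) R hR e φ c b hφe hφw hφc hbe (moves_of_rg hv hφv) hw
  exact hglue (lu_one R' hd c' b' hc' hb')

/-- Dimension three. -/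
theorem lu_three (hF : Four F) (R : Matrix (Fin 3) (Fin 3) F) (hR : R.det = 1) (hBig : Big R) (b c : Fin 3 → F)
    (hb : b ≠ 0) (hc : c ≠ 0) : LU R c b := by
  have hu : IsUnit R.det := by rw [hR]; exact isUnit_one
  have h1 := two_le_rg hBig 1
  obtain ⟨e, he, hbe, hw, hew, hcw⟩ := exists_vector hF R (ne_scalar hBig) h1 hb hc
  obtain ⟨v, hv, hvw⟩ := exists_not_mem_line h1 (R *ᵥ e - e)
  set K1 := (Submodule.span F ({e} : Set (Fin 3 → F))).comap (R⁻¹ - (1 : F) • (1 : Matrix _ _ F)).mulVecLin with hK1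
  have hK1le : Module.finrank F K1 ≤ 1 := by
    rcases Nat.lt_or_ge (Module.finrank F (Rg R⁻¹ 1)) 3 with hlt | hge
    · have hle : K1 ≤ Ker R⁻¹ 1 := by
        intro x hx
        rw [hK1, Submodule.mem_comap, Submodule.mem_span_singleton] at hx
        obtain ⟨a, ha⟩ := hx
        rcases eq_or_ne a 0 with rfl | ha0
        · rw [LinearMap.mem_ker, ← ha, zero_smul]
        · exact absurd ⟨a⁻¹ • x, by rw [map_smul, ← ha, smul_smul, inv_mul_cancel₀ ha0, one_smul]⟩ (not_mem_rg hu he hlt)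
      have := Submodule.finrank_mono hle
      have := rg_add_ker R⁻¹ 1
      have := two_le_rg (big_inv (by omega) hR hBig) 1
      omega
    · have hinj : LinearMap.ker (R⁻¹ - (1 : F) • (1 : Matrix _ _ F)).mulVecLin = ⊥ := by
        show Ker R⁻¹ 1 = ⊥
        rw [← Submodule.finrank_eq_zero]
        have := rg_add_ker R⁻¹ 1
        show Module.finrank F (Ker R⁻¹ 1) = 0
        omega
      let f : K1 →ₗ[F] Submodule.span F ({e} : Set (Fin 3 → F)) :=
        LinearMap.restrict (R⁻¹ - (1 : F) • (1 : Matrix _ _ F)).mulVecLin fun _ hx => hx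
      have hf : Function.Injective f := fun x y hxy =>
        Subtype.ext (LinearMap.ker_eq_bot.1 hinj (congrArg Subtype.val hxy))
      refine (LinearMap.finrank_le_finrank_of_injective hf).trans ?_
      refine (finrank_span_le_card ({e} : Set (Fin 3 → F))).trans ?_
      simp
  have hwK : R *ᵥ e - e ∉ K1 := by
    intro h
    rw [hK1, Submodule.mem_comap, Submodule.mem_span_singleton] at h
    obtain ⟨γ, hγ⟩ := h
    rw [mulVecLin_apply, sub_mulVec, smul_mulVec, one_mulVec, one_smul, mulVec_sub, mulVec_mulVec,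
      nonsing_inv_mul R hu, one_mulVec] at hγ
    have h2 := congrArg (fun x => R *ᵥ x) hγ
    simp only [mulVec_smul, mulVec_sub, mulVec_mulVec, mul_nonsing_inv R hu, one_mulVec] at h2
    refine no_quadratic hBig (2 - γ) (he _ ?_)
    have e1 : aeval R (X ^ 2 - Polynomial.C (2 - γ) * X + 1) *ᵥ e =
        (R * R) *ᵥ e - (2 - γ) • (R *ᵥ e) + e := by
      simp [pow_two, Algebra.algebraMap_eq_smul_one, sub_mulVec, add_mulVec, smul_mulVec, sub_smul, sub_mul, smul_mul_assoc]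
    rw [e1, sub_smul, two_smul, h2]
    abel
  obtain ⟨v1, hv1w, hv1⟩ : ∃ v1, v1 ∉ Submodule.span F {R *ᵥ e - e} ∧ ∀ x ∈ K1, ∃ a : F, a • v1 = x := by
    obtain ⟨u, hu1⟩ := finrank_le_one_iff.1 hK1le
    rcases eq_or_ne (u : Fin 3 → F) 0 with h0 | h0
    · refine ⟨c, hcw, fun x hx => ⟨0, ?_⟩⟩
      obtain ⟨a, ha⟩ := hu1 ⟨x, hx⟩
      rw [zero_smul, ← show a • (u : Fin 3 → F) = x from congrArg Subtype.val ha, h0, smul_zero]
    · refine ⟨u, fun h => hwK ?_, fun x hx => ?_⟩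
      · obtain ⟨a, ha⟩ := Submodule.mem_span_singleton.1 h
        have ha0 : a ≠ 0 := fun e0 => h0 (by rw [← ha, e0, zero_smul])
        rw [show R *ᵥ e - e = a⁻¹ • (u : Fin 3 → F) by rw [← ha, smul_smul, inv_mul_cancel₀ ha0, one_smul]]
        exact K1.smul_mem _ u.2
      · obtain ⟨a, ha⟩ := hu1 ⟨x, hx⟩
        exact ⟨a, congrArg Subtype.val ha⟩
  obtain ⟨φ, hφe, hφw, hφc, hφ1, hφv⟩ := exists_affine hF hew c v1 v hcw hv1w hvw
  rw [dotProduct_sub, sub_eq_zero, hφe] at hφw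
  obtain ⟨R', c', b', hd, hc', hb', hglue, hkey, hfix⟩ := reduce (k := 1) R hR e φ c b hφe hφw hφc hbe (moves_of_rg hv hφv) hw
  refine hglue (lu_two hF R' hd (fun μ hμ => ?_) (fun x hx => ?_) b' c' hb' hc')
  · obtain ⟨ν, z, -, hz, hk'⟩ := hkey μ 0 0 Nat.one_pos (by simp [hμ])
    exact key_false hR hBig he hφe (Or.inr ⟨rfl, hz rfl⟩) (fun h => absurd h (by omega)) hk'
  · by_contra hx0
    obtain ⟨y, hy0, hφy, hy⟩ := hfix x hx hx0
    obtain ⟨a, ha⟩ := hv1 y (by rw [hK1, Submodule.mem_comap, mulVecLin_apply, sub_mulVec, smul_mulVec, one_mulVec, one_smul]; exact hy)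
    rw [← ha, dotProduct_smul, smul_eq_mul, mul_eq_zero] at hφy
    rcases hφy with h | h
    · exact hy0 (by rw [← ha, h, zero_smul])
    · exact hφ1 h

/-- The factorisation. -/
theorem lu_main (hF : Four F) : ∀ (k : ℕ) (R : Matrix (Fin (k + 3)) (Fin (k + 3)) F), R.det = 1 → Big R →
    ∀ b c : Fin (k + 3) → F, b ≠ 0 → c ≠ 0 → LU R c b := by
  intro k
  induction k with
  | zero => exact fun R hR hBig b c hb hc => lu_three hF R hR hBig b c hb hc
  | succ k ih =>
    intro R hR hBig b c hb hc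
    have hu : IsUnit R.det := by rw [hR]; exact isUnit_one
    have h1 := two_le_rg hBig 1
    obtain ⟨e, he, hbe, hw, hew, hcw⟩ := exists_vector hF R (ne_scalar hBig) h1 hb hc
    obtain ⟨v, hv, hvw⟩ := exists_not_mem_line h1 (R *ᵥ e - e)
    set T := fun ν => Module.finrank F (Rg R⁻¹ ν) ≤ 2
    have hkdim : ∀ ν, T ν → k + 2 ≤ Module.finrank F (Ker R⁻¹ ν) := fun ν hν => by
      have := rg_add_ker R⁻¹ ν
      change _ ≤ 2 at hν
      omega
    have hthree : ∀ x y z, T x → T y → x ≠ y → T z → z = x ∨ z = y := by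
      intro x y z hx hy hxy hz
      by_contra hc3
      push Not at hc3
      have hdis : ∀ s t : F, s ≠ t → Ker R⁻¹ s ⊓ Ker R⁻¹ t = ⊥ := fun s t hst => eq_bot_iff.2 fun w hw => by
        obtain ⟨h1, h2⟩ := hw
        rw [SetLike.mem_coe, mem_ker] at h1 h2
        rw [Submodule.mem_bot]
        have h3 : (s - t) • w = 0 := by rw [sub_smul, ← h1, ← h2, sub_self]
        exact (smul_eq_zero.1 h3).resolve_left (sub_ne_zero.2 hst)
      have hsum := Submodule.finrank_sup_add_finrank_inf_eq (Ker R⁻¹ x) (Ker R⁻¹ y)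
      rw [hdis x y hxy, finrank_bot] at hsum
      have := hkdim x hx
      have := hkdim y hy
      have hle := Submodule.finrank_le (Ker R⁻¹ x ⊔ Ker R⁻¹ y)
      rw [Module.finrank_fin_fun] at hle
      have htop : Ker R⁻¹ x ⊔ Ker R⁻¹ y = ⊤ :=
        Submodule.eq_top_of_finrank_eq (by rw [Module.finrank_fin_fun]; omega)
      have hk3 := hkdim z hz
      obtain ⟨w, hwz, hw0⟩ := Submodule.exists_mem_ne_zero_of_ne_bot (p := Ker R⁻¹ z) (fun h => by rw [h, finrank_bot] at hk3; omega)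
      obtain ⟨a, ha, b', hb', hab⟩ := Submodule.mem_sup.1 (htop.ge (Submodule.mem_top (x := w)))
      rw [mem_ker] at hwz ha hb'
      have h0 : (x - z) • a = (z - y) • b' := by
        have h := hwz
        rw [← hab, mulVec_add, ha, hb', smul_add] at h
        rw [sub_smul, sub_smul]
        linear_combination (norm := module) h
      have hmem : (x - z) • a ∈ Ker R⁻¹ x ⊓ Ker R⁻¹ y :=
        ⟨(Ker R⁻¹ x).smul_mem _ (mem_ker.2 ha), by rw [h0]; exact (Ker R⁻¹ y).smul_mem _ (mem_ker.2 hb')⟩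
      rw [hdis x y hxy, Submodule.mem_bot] at hmem
      have ha0 := (smul_eq_zero.1 hmem).resolve_left (sub_ne_zero.2 (Ne.symm hc3.1))
      rw [hmem] at h0
      have hb0 := (smul_eq_zero.1 h0.symm).resolve_left (sub_ne_zero.2 hc3.2)
      exact hw0 (by rw [← hab, ha0, hb0, add_zero])
    have hkw : ∀ ν, T ν → ∃ x ∈ Ker R⁻¹ ν, x ∉ Submodule.span F {R *ᵥ e - e} := fun ν hν =>
      exists_not_mem_line (by have := hkdim ν hν; omega) _
    obtain ⟨φ, hφe, hφw, hφc, hmov, hφT⟩ : ∃ φ : Fin (k + 4) → F, φ ⬝ᵥ e = 1 ∧ φ ⬝ᵥ (R *ᵥ e - e) = 0 ∧ φ ⬝ᵥ c ≠ 0 ∧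
        φ ᵥ* R ≠ φ ∧ ∀ ν, T ν → ∃ x ∈ Ker R⁻¹ ν, φ ⬝ᵥ x ≠ 0 := by
      by_cases hex : ∃ x y, T x ∧ T y ∧ x ≠ y
      · obtain ⟨x, y, hx, hy, hxy⟩ := hex
        obtain ⟨vx, hvx, hvxw⟩ := hkw x hx
        obtain ⟨vy, hvy, hvyw⟩ := hkw y hy
        obtain ⟨φ, h1, h2, h3, h4, h5⟩ := exists_affine hF hew c vx vy hcw hvxw hvyw
        refine ⟨φ, h1, h2, h3, ?_, fun ν hν => ?_⟩
        · have key : ∀ (s : F) (u : Fin (k + 4) → F), u ∈ Ker R⁻¹ s → φ ⬝ᵥ u ≠ 0 → s ≠ 1 → φ ᵥ* R ≠ φ := by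
            intro s u hu' hφu hs
            obtain ⟨hs0, hRu⟩ := eigen_inv hu (fun e0 => hφu (by rw [e0, dotProduct_zero])) (mem_ker.1 hu')
            refine dot_moves (x := u) ?_
            rw [hRu, dotProduct_smul, smul_eq_mul]
            intro h
            have h' : (s⁻¹ - 1) * (φ ⬝ᵥ u) = 0 := by rw [sub_mul, h, one_mul, sub_self]
            exact hs (inv_eq_one.1 (sub_eq_zero.1 ((mul_eq_zero.1 h').resolve_right hφu)))
          by_cases hx1 : x = 1
          · exact key y vy hvy h5 fun hy1 => hxy (hx1.trans hy1.symm)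
          · exact key x vx hvx h4 hx1
        · rcases hthree x y ν hx hy hxy hν with rfl | rfl
          exacts [⟨vx, hvx, h4⟩, ⟨vy, hvy, h5⟩]
      · push Not at hex
        obtain ⟨v2, hv2w, hv2⟩ : ∃ v2, v2 ∉ Submodule.span F {R *ᵥ e - e} ∧ ∀ ν, T ν → v2 ∈ Ker R⁻¹ ν := by
          by_cases hT : ∃ ν, T ν
          · obtain ⟨ν, hν⟩ := hT
            obtain ⟨x, hx, hxw⟩ := hkw ν hν
            exact ⟨x, hxw, fun ν' hν' => hex ν ν' hν hν' ▸ hx⟩
          · exact ⟨c, hcw, fun ν hν => absurd ⟨ν, hν⟩ hT⟩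
        obtain ⟨φ, h1, h2, h3, h4, h5⟩ := exists_affine hF hew c v2 v hcw hv2w hvw
        exact ⟨φ, h1, h2, h3, moves_of_rg hv h5, fun ν hν => ⟨v2, hv2 ν hν, h4⟩⟩
    rw [dotProduct_sub, sub_eq_zero, hφe] at hφw
    obtain ⟨R', c', b', hd, hc', hb', hglue, hkey, -⟩ := reduce (k := k + 2) R hR e φ c b hφe hφw hφc hbe hmov hw
    refine hglue (ih R' hd (fun μ u f hμ => ?_) b' c' hb' hc')
    obtain ⟨ν, z, -, -, hk'⟩ := hkey μ u f (by omega) hμ
    exact key_false hR hBig he hφe (Or.inl (by omega)) (fun _ h => hφT ν h) hk'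

end Cfsg.Lib.RegularProduct
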