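import Cfsg.Agent.Known.RegularProduct.Induct
import Cfsg.Agent.Known.UnipotentBasics

/-!
Every non-scalar matrix of determinant one is a product of two regular unipotents.
-/

set_option autoImplicit false
set_option linter.style.haveILetI false
set_option maxHeartbeats 1000000

namespace Cfsg.Lib.RegularProduct

open Matrix Polynomial

variable {F : Type*} [Field F] {m n : ℕ}

/-- Regular unipotent. -/
def Regular (A : Matrix (Fin n) (Fin n) F) : Prop := IsNilpotent (A - 1) ∧ (A - 1) ^ (n - 1) ≠ 0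

theorem Regular.conj {A : Matrix (Fin n) (Fin n) F} (h : Regular A) (P : GL (Fin n) F) :
    Regular ((P : Matrix (Fin n) (Fin n) F) * A * ((P⁻¹ : GL (Fin n) F) : Matrix (Fin n) (Fin n) F)) := by
  have e : (P : Matrix (Fin n) (Fin n) F) * A * ((P⁻¹ : GL (Fin n) F) : Matrix (Fin n) (Fin n) F) - 1 =
      (P : Matrix (Fin n) (Fin n) F) * (A - 1) * ((P⁻¹ : GL (Fin n) F) : Matrix (Fin n) (Fin n) F) := by
    rw [mul_sub, mul_one, sub_mul, Units.mul_inv]
  have hpow : ∀ k, ((P : Matrix (Fin n) (Fin n) F) * A * ((P⁻¹ : GL (Fin n) F) : Matrix (Fin n) (Fin n) F) - 1) ^ k =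
      (P : Matrix (Fin n) (Fin n) F) * (A - 1) ^ k * ((P⁻¹ : GL (Fin n) F) : Matrix (Fin n) (Fin n) F) := fun k => by
    rw [e]
    induction k with
    | zero => simp
    | succ k ih =>
      rw [pow_succ, ih, pow_succ]
      simp only [mul_assoc]
      rw [← mul_assoc ((P⁻¹ : GL (Fin n) F) : Matrix (Fin n) (Fin n) F) (P : Matrix (Fin n) (Fin n) F), Units.inv_mul, one_mul]
  constructor
  · obtain ⟨j, hj⟩ := h.1
    exact ⟨j, by rw [hpow, hj, mul_zero, zero_mul]⟩
  · rw [hpow]
    intro h0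
    apply h.2
    have := congrArg (fun M => ((P⁻¹ : GL (Fin n) F) : Matrix (Fin n) (Fin n) F) * M * (P : Matrix (Fin n) (Fin n) F)) h0
    simpa only [mul_zero, zero_mul, ← mul_assoc, Units.inv_mul, one_mul, Units.inv_mul_cancel_right] using this

theorem Regular.inv {A : Matrix (Fin n) (Fin n) F} (h : Regular A) (hA : IsUnit A.det) : Regular A⁻¹ := by
  have e : A⁻¹ - 1 = -A⁻¹ * (A - 1) := by rw [neg_mul, mul_sub, nonsing_inv_mul A hA, mul_one, neg_sub]
  have hc : Commute (-A⁻¹) (A - 1) := by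
    show -A⁻¹ * (A - 1) = (A - 1) * -A⁻¹
    simp [mul_sub, sub_mul, nonsing_inv_mul A hA, mul_nonsing_inv A hA]; abel
  constructor
  · obtain ⟨j, hj⟩ := h.1
    exact ⟨j, by rw [e, hc.mul_pow, hj, mul_zero]⟩
  · rw [e, hc.mul_pow]
    intro h0
    apply h.2
    exact ((((Matrix.isUnit_iff_isUnit_det _).2 (isUnit_nonsing_inv_det A hA)).neg.pow _).mul_right_eq_zero).1 h0

theorem strict_pow {L : Matrix (Fin n) (Fin n) F} (hL : Lrg L) :
    ∀ k (i j : Fin n), ((i : ℕ) < j + k → ((L - 1) ^ k) i j = 0) ∧ ((i : ℕ) = j + k → ((L - 1) ^ k) i j ≠ 0) := by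
  have hN : ∀ i j : Fin n, ((i : ℕ) ≤ j → (L - 1) i j = 0) ∧ ((i : ℕ) = j + 1 → (L - 1) i j ≠ 0) := by
    intro i j
    rw [Matrix.sub_apply, Matrix.one_apply]
    refine ⟨fun h => ?_, fun h => ?_⟩
    · rcases eq_or_ne i j with rfl | hij
      · rw [if_pos rfl, (hL i i).2.1, sub_self]
      · rw [if_neg hij, sub_zero, (hL i j).1 (lt_of_le_of_ne h fun e => hij (Fin.ext e))]
    · rw [if_neg (fun e => by rw [e] at h; omega), sub_zero]
      exact (hL i j).2.2 h
  intro k
  induction k with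
  | zero =>
    intro i j
    rw [pow_zero, Matrix.one_apply]
    exact ⟨fun h => if_neg (fun e => by rw [e] at h; omega), fun h => by rw [if_pos (Fin.ext (by simpa using h))]; exact one_ne_zero⟩
  | succ k ih =>
    intro i j
    rw [pow_succ, Matrix.mul_apply]
    refine ⟨fun h => Finset.sum_eq_zero fun l _ => ?_, fun h => ?_⟩
    · by_cases hl : (l : ℕ) ≤ j
      · rw [(hN l j).1 hl, mul_zero]
      · rw [(ih i l).1 (by omega), zero_mul]
    · have hlt : (j : ℕ) + 1 < n := by have := i.isLt; omega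
      rw [Finset.sum_eq_single (⟨j + 1, hlt⟩ : Fin n)]
      · exact mul_ne_zero ((ih i _).2 (by simp only; omega)) ((hN _ j).2 rfl)
      · intro l _ hl
        by_cases hlj : (l : ℕ) ≤ j
        · rw [(hN l j).1 hlj, mul_zero]
        · rw [(ih i l).1 (by
            have : (l : ℕ) ≠ j + 1 := fun e => hl (Fin.ext e)
            omega), zero_mul]
      · exact fun h' => absurd (Finset.mem_univ _) h'

theorem regular_lrg {L : Matrix (Fin (m + 1)) (Fin (m + 1)) F} (hL : Lrg L) : Regular L := by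
  constructor
  · refine ⟨m + 1, Matrix.ext fun i j => (strict_pow hL _ i j).1 (by have := i.isLt; omega)⟩
  · intro h
    refine (strict_pow hL (m + 1 - 1) (Fin.last m) 0).2 (by simp) ?_
    rw [h]; rfl

theorem regular_urg {U : Matrix (Fin (m + 1)) (Fin (m + 1)) F} (hU : Urg U) : Regular U := by
  obtain ⟨h1, h2⟩ := regular_lrg hU
  have e : ∀ k, (Uᵀ - 1) ^ k = ((U - 1) ^ k)ᵀ := fun k => by rw [transpose_pow, transpose_sub, transpose_one]
  constructor
  · obtain ⟨j, hj⟩ := h1
    refine ⟨j, ?_⟩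
    rw [e] at hj
    exact transpose_eq_zero.1 hj
  · intro h
    exact h2 (by rw [e, h, transpose_zero])

/-- Companion matrix. -/
def comp (p : F[X]) : Matrix (Fin n) (Fin n) F :=
  Matrix.of fun i j => if (j : ℕ) + 1 < n then (if (i : ℕ) = j + 1 then 1 else 0) else -p.coeff i

/-- The two special companion matrices. -/
theorem comp_spec (t : F) : (comp ((X - Polynomial.C t) ^ (m + 1)) - t • (1 : Matrix (Fin (m + 1)) (Fin (m + 1)) F)) ^ (m + 1) = 0 ∧
    (comp ((X - Polynomial.C t) ^ (m + 1)) - t • (1 : Matrix (Fin (m + 1)) (Fin (m + 1)) F)) ^ m ≠ 0 := by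
  classical
  set p := (X - Polynomial.C t) ^ (m + 1) with hp
  set C := (comp p : Matrix (Fin (m + 1)) (Fin (m + 1)) F) with hC
  set e0 : Fin (m + 1) → F := Pi.single 0 1 with he0
  have hpm : p.Monic := (monic_X_sub_C t).pow _
  have hpd : p.natDegree = m + 1 := by rw [hp, natDegree_pow, natDegree_X_sub_C, mul_one]
  have hcol : ∀ j : Fin (m + 1), (C ^ (j : ℕ)) *ᵥ e0 = Pi.single j 1 := by
    intro j
    induction j using Fin.induction with
    | zero => rw [Fin.val_zero, pow_zero, one_mulVec, he0]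
    | succ j ih =>
      rw [Fin.val_castSucc] at ih
      rw [Fin.val_succ, pow_succ', ← mulVec_mulVec, ih, mulVec_single_one]
      funext i
      simp [hC, comp, Fin.ext_iff, Pi.single_apply]
  have hlast : (C ^ (m + 1)) *ᵥ e0 = fun i : Fin (m + 1) => -p.coeff (i : ℕ) := by
    have hl := hcol (Fin.last m)
    rw [Fin.val_last] at hl
    rw [pow_succ', ← mulVec_mulVec, hl, mulVec_single_one]
    funext i
    simp [hC, comp]
  have hq : ∀ q : F[X], q.natDegree ≤ m → aeval C q *ᵥ e0 = fun i : Fin (m + 1) => q.coeff (i : ℕ) := by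
    intro q hq
    rw [aeval_eq_sum_range' (show q.natDegree < m + 1 by omega), Finset.sum_range, Matrix.sum_mulVec]
    funext i
    rw [Finset.sum_apply, Finset.sum_eq_single i]
    · rw [smul_mulVec, hcol, Pi.smul_apply, Pi.single_eq_same, smul_eq_mul, mul_one]
    · intro j _ hj
      rw [smul_mulVec, hcol, Pi.smul_apply, Pi.single_eq_of_ne hj.symm, smul_zero]
    · exact fun h => absurd (Finset.mem_univ _) h
  have hp0 : aeval C p *ᵥ e0 = 0 := by
    conv_lhs => rw [← eraseLead_add_monomial_natDegree_leadingCoeff p]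
    rw [map_add, add_mulVec, hq _ ((eraseLead_natDegree_le p).trans (by omega)), hpm.leadingCoeff, hpd, aeval_monomial,
      map_one, one_mul, hlast]
    funext i
    have := i.isLt
    rw [Pi.add_apply, eraseLead_coeff_of_ne _ (by omega), add_neg_cancel, Pi.zero_apply]
  have hpz : aeval C p = 0 := by
    refine ext_of_mulVec_single fun j => ?_
    rw [zero_mulVec, ← hcol, mulVec_mulVec]
    have : Commute (aeval C p) (C ^ (j : ℕ)) := by
      have h1 : C ^ (j : ℕ) = aeval C (X ^ (j : ℕ) : F[X]) := by simp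
      rw [h1]; exact (Commute.all p _).map (aeval C)
    rw [this.eq, ← mulVec_mulVec, hp0, mulVec_zero]
  constructor
  · rw [← hpz, hp, map_pow, aeval_X_sub]
  · intro h
    have h2 := hq ((X - Polynomial.C t) ^ m) (by rw [natDegree_pow, natDegree_X_sub_C, mul_one])
    rw [map_pow, aeval_X_sub, h, zero_mulVec] at h2
    have h3 := congrFun h2 (Fin.last m)
    have hmon : ((X - Polynomial.C t) ^ m : F[X]).Monic := (monic_X_sub_C t).pow _
    have h4 := hmon.coeff_natDegree
    rw [natDegree_pow, natDegree_X_sub_C, mul_one] at h4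
    rw [Fin.val_last, h4] at h3
    exact zero_ne_one h3

theorem det_regular {A : Matrix (Fin n) (Fin n) F} (h : Regular A) : IsUnit A.det := by
  rw [← Matrix.isUnit_iff_isUnit_det]
  have := h.1.isUnit_one_add
  rwa [add_sub_cancel] at this

theorem det_scalar_add (μ : F) (hμ : μ ≠ 0) (u f : Fin n → F) :
    (μ • (1 : Matrix (Fin n) (Fin n) F) + vecMulVec u f).det = μ ^ n * (1 + μ⁻¹ * (f ⬝ᵥ u)) := by
  rw [show μ • (1 : Matrix (Fin n) (Fin n) F) + vecMulVec u f = μ • (1 + vecMulVec (μ⁻¹ • u) f) by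
    rw [smul_add, ← smul_vecMulVec, smul_smul, mul_inv_cancel₀ hμ, one_smul],
    det_smul, Fintype.card_fin, det_one_add_vec, dotProduct_smul, smul_eq_mul]

variable {J : GL (Fin (m + 3)) F}

/-- The product theorem. -/
theorem product (hF : Four F) (hJ : Regular (J : Matrix (Fin (m + 3)) (Fin (m + 3)) F)) (hJd : (J : Matrix (Fin (m + 3)) (Fin (m + 3)) F).det = 1)
    (g : GL (Fin (m + 3)) F) (hg : ∀ c : F, (g : Matrix (Fin (m + 3)) (Fin (m + 3)) F) ≠ c • (1 : Matrix _ _ F))
    (hdet : (g : Matrix (Fin (m + 3)) (Fin (m + 3)) F).det = 1) :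
    ∃ x y : GL (Fin (m + 3)) F, g = (x * J * x⁻¹) * (y * J * y⁻¹) := by
  classical
  have hconj : ∀ A : Matrix (Fin (m + 3)) (Fin (m + 3)) F, Regular A →
      ∃ x : GL (Fin (m + 3)) F, ((x * J * x⁻¹ : GL (Fin (m + 3)) F) : Matrix _ _ F) = A ∧ A.det = 1 := by
    intro A hA
    let Au : GL (Fin (m + 3)) F := GeneralLinearGroup.mkOfDetNeZero A (det_regular hA).ne_zero
    obtain ⟨x, hx⟩ := isConj_iff.1 (Cfsg.Lib.Known.Unip.isConj_of_regular J Au hJ.1 hA.1 hJ.2 hA.2)
    refine ⟨x, congrArg Units.val hx, ?_⟩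
    rw [show A = ((Au : GL (Fin (m + 3)) F) : Matrix _ _ F) from rfl, ← hx, Units.val_mul, Units.val_mul, det_mul, det_mul,
      hJd, mul_one, ← det_mul, Units.mul_inv, det_one]
  suffices h : ∃ (P : GL (Fin (m + 3)) F) (A B : Matrix (Fin (m + 3)) (Fin (m + 3)) F), Regular A ∧ Regular B ∧
      (P : Matrix (Fin (m + 3)) (Fin (m + 3)) F) * (g : Matrix (Fin (m + 3)) (Fin (m + 3)) F) *
        ((P⁻¹ : GL (Fin (m + 3)) F) : Matrix (Fin (m + 3)) (Fin (m + 3)) F) = A * B by
    obtain ⟨P, A, B, hA, hB, he⟩ := h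
    obtain ⟨x, hx, -⟩ := hconj A hA
    obtain ⟨y, hy, -⟩ := hconj B hB
    refine ⟨P⁻¹ * x, P⁻¹ * y, ?_⟩
    have h1 : P * g * P⁻¹ = (x * J * x⁻¹) * (y * J * y⁻¹) := Units.ext (by
      rw [Units.val_mul, Units.val_mul, Units.val_mul (x * J * x⁻¹), hx, hy, he])
    calc g = P⁻¹ * (P * g * P⁻¹) * P := by group
      _ = _ := by rw [h1]; group
  have he0 : (Pi.single 0 1 : Fin (m + 3) → F) ≠ 0 := fun h => by simpa using congrFun h 0
  by_cases hBig : Big (g : Matrix (Fin (m + 3)) (Fin (m + 3)) F)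
  · obtain ⟨P, L, U, hL, hU, he, -, -⟩ := lu_main hF m _ hdet hBig _ _ he0 he0
    exact ⟨P, L, U, regular_lrg hL, regular_urg hU, he⟩
  simp only [Big, ne_eq, not_forall, not_not] at hBig
  obtain ⟨μ, u, f, hμ⟩ := hBig
  have hμ0 : μ ≠ 0 := by
    rintro rfl
    rw [hμ, zero_smul, zero_add, det_vecMulVec] at hdet
    exact zero_ne_one hdet
  have hu : u ≠ 0 := fun h => hg μ (by rw [hμ, h, zero_vecMulVec, add_zero])
  have hf : f ≠ 0 := fun h => hg μ (by rw [hμ, h, vecMulVec_zero, add_zero])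
  -- a model
  obtain ⟨A, B, u', f', hA, hB, hAB, hne⟩ : ∃ (A B : Matrix (Fin (m + 3)) (Fin (m + 3)) F) (u' f' : Fin (m + 3) → F),
      Regular A ∧ Regular B ∧ A * B = μ • (1 : Matrix _ _ F) + vecMulVec u' f' ∧ A * B ≠ μ • (1 : Matrix _ _ F) := by
    by_cases hμ1 : μ = 1
    · set Ju : Matrix (Fin (m + 3)) (Fin (m + 3)) F :=
        Matrix.of fun i j => if i = j then 1 else if (j : ℕ) = i + 1 then 1 else 0 with hJu
      set el : Fin (m + 3) → F := Pi.single (Fin.last (m + 2)) 1 with hel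
      set E := vecMulVec (Pi.single 0 1 : Fin (m + 3) → F) el with hE
      have hJr : Urg Ju := by
        intro i j
        simp only [Urg, transpose_apply, hJu, Matrix.of_apply]
        refine ⟨fun h => ?_, by simp, fun h => ?_⟩
        · rw [if_neg (fun e => by rw [e] at h; omega), if_neg (by omega)]
        · rw [if_neg (fun e => by rw [e] at h; omega), if_pos h]; exact one_ne_zero
      have hel2 : el ᵥ* Ju = el := by
        rw [hel, single_one_vecMul]
        funext j
        simp only [row, hJu, Matrix.of_apply, Pi.single_apply]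
        by_cases hj : j = Fin.last (m + 2)
        · simp [hj]
        · have : (j : ℕ) ≠ (Fin.last (m + 2) : ℕ) + 1 := by have := j.isLt; simp; omega
          rw [if_neg (Ne.symm hj), if_neg this, if_neg hj]
      have hTJ : (1 + E) * Ju = Ju + E := by rw [add_mul, one_mul, hE, vecMulVec_mul, hel2]
      have hUrg : Urg ((1 + E) * Ju) := by
        intro i j
        obtain ⟨h1, h2, h3⟩ := hJr i j
        simp only [transpose_apply] at h1 h2 h3
        have hE0 : ∀ a b : Fin (m + 3), ¬ (a = 0 ∧ b = Fin.last (m + 2)) → E a b = 0 := by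
          intro a b hab
          simp only [hE, hel, vecMulVec_apply, Pi.single_apply]
          split_ifs <;> simp_all
        rw [hTJ]
        simp only [transpose_apply, Matrix.add_apply]
        refine ⟨fun h => ?_, ?_, fun h => ?_⟩
        · rw [h1 h, hE0 j i (by rintro ⟨rfl, rfl⟩; simp at h), add_zero]
        · rw [h2, hE0 i i (by rintro ⟨rfl, h0⟩; simp [Fin.ext_iff] at h0), add_zero]
        · rw [hE0 j i (by rintro ⟨rfl, rfl⟩; simp at h), add_zero]; exact h3 h
      have hJdet : IsUnit Ju.det := det_regular (regular_urg hJr)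
      refine ⟨(1 + E) * Ju, Ju⁻¹, Pi.single 0 1, el, regular_urg hUrg, (regular_urg hJr).inv hJdet, ?_, ?_⟩
      · rw [mul_assoc, mul_nonsing_inv _ hJdet, mul_one, hμ1, one_smul, hE]
      · rw [mul_assoc, mul_nonsing_inv _ hJdet, mul_one, hμ1, one_smul, ne_eq, add_eq_left]
        intro h
        have := congrFun (congrFun h 0) (Fin.last (m + 2))
        simp [hE, hel, vecMulVec_apply] at this
    · set X1 := (comp ((X - Polynomial.C (1 : F)) ^ (m + 3)) : Matrix (Fin (m + 3)) (Fin (m + 3)) F) with hX1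
      set Z := (comp ((X - Polynomial.C μ) ^ (m + 3)) : Matrix (Fin (m + 3)) (Fin (m + 3)) F) with hZ
      obtain ⟨a1, a2⟩ := comp_spec (m := m + 2) (1 : F)
      obtain ⟨b1, b2⟩ := comp_spec (m := m + 2) μ
      rw [one_smul] at a1 a2
      have hA : Regular X1 := ⟨⟨_, a1⟩, a2⟩
      set Y := μ⁻¹ • Z with hY
      have hY1 : Y - 1 = μ⁻¹ • (Z - μ • (1 : Matrix _ _ F)) := by
        rw [hY, smul_sub, smul_smul, inv_mul_cancel₀ hμ0, one_smul]
      have hYr : Regular Y := by
        refine ⟨⟨m + 3, ?_⟩, ?_⟩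
        · rw [hY1, _root_.smul_pow, b1, smul_zero]
        · rw [hY1, _root_.smul_pow]
          exact smul_ne_zero (pow_ne_zero _ (inv_ne_zero hμ0)) b2
      have hYd := det_regular hYr
      set v : Fin (m + 3) → F := fun i => -((X - Polynomial.C (1 : F)) ^ (m + 3)).coeff (i : ℕ) + ((X - Polynomial.C μ) ^ (m + 3)).coeff (i : ℕ) with hv
      have hXZ : X1 = μ • Y + vecMulVec v (Pi.single (Fin.last (m + 2)) 1) := by
        refine Matrix.ext fun i j => ?_
        rw [hY, smul_smul, mul_inv_cancel₀ hμ0, one_smul, Matrix.add_apply, vecMulVec_apply]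
        simp only [hX1, hZ, comp, Matrix.of_apply, Pi.single_apply, hv]
        by_cases hj : (j : ℕ) + 1 < m + 3
        · rw [if_pos hj, if_pos hj, if_neg (show ¬ j = Fin.last (m + 2) from fun e => by rw [e] at hj; simp at hj), mul_zero, add_zero]
        · rw [if_neg hj, if_neg hj, if_pos (Fin.ext (by have := j.isLt; simp; omega)), mul_one]
          ring
      refine ⟨X1, Y⁻¹, v, Pi.single (Fin.last (m + 2)) 1 ᵥ* Y⁻¹, hA, hYr.inv hYd, ?_, ?_⟩
      · rw [hXZ, add_mul, smul_mul_assoc, mul_nonsing_inv Y hYd, vecMulVec_mul]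
      · intro h
        have h2 : X1 = μ • Y := by
          calc X1 = X1 * Y⁻¹ * Y := by rw [mul_assoc, nonsing_inv_mul Y hYd, mul_one]
            _ = μ • Y := by rw [h, smul_mul_assoc, one_mul]
        rw [hY, smul_smul, mul_inv_cancel₀ hμ0, one_smul] at h2
        have h3 : IsUnit (X1 - μ • (1 : Matrix _ _ F)) := by
          rw [show X1 - μ • (1 : Matrix _ _ F) = (1 - μ) • (1 : Matrix _ _ F) + (X1 - 1) by rw [sub_smul, one_smul]; abel]
          refine hA.1.isUnit_add_left_of_commute ?_ ((Commute.one_right _).smul_right _)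
          exact ((Matrix.isUnit_iff_isUnit_det _).2 (by
            rw [det_smul, det_one, mul_one]; exact (isUnit_iff_ne_zero.2 (pow_ne_zero _ (sub_ne_zero.2 (Ne.symm hμ1))))))
        rw [h2] at h3
        exact not_isUnit_zero (b1 ▸ h3.pow (m + 2 + 1))
  have hdAB : (A * B).det = 1 := by
    obtain ⟨-, -, ha⟩ := hconj A hA
    obtain ⟨-, -, hb⟩ := hconj B hB
    rw [det_mul, ha, hb, mul_one]
  have hu' : u' ≠ 0 := fun h => hne (by rw [hAB, h, zero_vecMulVec, add_zero])
  have hf' : f' ≠ 0 := fun h => hne (by rw [hAB, h, vecMulVec_zero, add_zero])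
  have hdot : f ⬝ᵥ u = f' ⬝ᵥ u' := by
    rw [hAB, det_scalar_add μ hμ0] at hdAB
    rw [hμ, det_scalar_add μ hμ0] at hdet
    have := mul_left_cancel₀ (pow_ne_zero _ hμ0) (hdet.trans hdAB.symm)
    exact mul_left_cancel₀ (inv_ne_zero hμ0) (add_left_cancel this)
  obtain ⟨P, hPu, hPf⟩ := pair_conj u u' f f' hu hu' hf hf' hdot
  refine ⟨P, A, B, hA, hB, ?_⟩
  rw [hAB, hμ, mul_add, add_mul, mul_smul_comm, mul_one, smul_mul_assoc, Units.mul_inv, mul_vecMulVec, vecMulVec_mul, hPu,
    ← hPf, vecMul_vecMul, Units.mul_inv, vecMul_one]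

end Cfsg.Lib.RegularProduct
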