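import Mathlib

/-!
Choice of vectors and functionals over a field with at least four elements.
-/

set_option autoImplicit false
set_option linter.style.haveILetI false

namespace Cfsg.Lib.RegularProduct

open Matrix Polynomial

variable {F : Type*} [Field F] {m : ℕ}

/-- The field has four elements at least. -/
def Four (F : Type*) : Prop := 4 ≤ Cardinal.mk F

theorem avoid (hF : Four F) (P1 P2 P3 : F → Prop) (h1 : ∀ s t, P1 s → P1 t → s = t)
    (h2 : ∀ s t, P2 s → P2 t → s = t) (h3 : ∀ s t, P3 s → P3 t → s = t) : ∃ t, ¬ P1 t ∧ ¬ P2 t ∧ ¬ P3 t := by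
  by_contra hc
  simp only [not_exists, not_and, not_not] at hc
  obtain ⟨s, hs⟩ := Cardinal.exists_finset_le_card F 4 (by exact_mod_cast hF)
  classical
  have hone : ∀ P : F → Prop, (∀ a b, P a → P b → a = b) → (s.filter P).card ≤ 1 := fun P hP =>
    Finset.card_le_one.2 fun a ha b hb => hP a b (Finset.mem_filter.1 ha).2 (Finset.mem_filter.1 hb).2
  have hsub : s ⊆ s.filter P1 ∪ s.filter P2 ∪ s.filter P3 := fun t ht => by
    simp only [Finset.mem_union, Finset.mem_filter]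
    by_cases a : P1 t
    · exact Or.inl (Or.inl ⟨ht, a⟩)
    by_cases b : P2 t
    · exact Or.inl (Or.inr ⟨ht, b⟩)
    exact Or.inr ⟨ht, hc t a b⟩
  have := (Finset.card_le_card hsub).trans ((Finset.card_union_le _ _).trans
    (Nat.add_le_add_right (Finset.card_union_le _ _) _))
  have := hone P1 h1
  have := hone P2 h2
  have := hone P3 h3
  omega

theorem line_subsingleton {V : Type*} [AddCommGroup V] [Module F V] {a b : V} (h : a ≠ 0 ∨ b ≠ 0) :
    ∀ s t : F, a + s • b = 0 → a + t • b = 0 → s = t := by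
  intro s t hs ht
  have h1 : (s - t) • b = 0 := by rw [sub_smul, sub_eq_zero]; exact add_left_cancel (hs.trans ht.symm)
  rcases smul_eq_zero.1 h1 with h2 | h2
  · exact sub_eq_zero.1 h2
  · rw [h2, smul_zero, add_zero] at hs
    exact absurd h2 (h.resolve_left (not_not_intro hs))

theorem dot_subsingleton {φ ψ v : Fin m → F} (h : φ ⬝ᵥ v ≠ 0 ∨ ψ ⬝ᵥ v ≠ 0) :
    ∀ s t : F, (φ + s • ψ) ⬝ᵥ v = 0 → (φ + t • ψ) ⬝ᵥ v = 0 → s = t := by
  intro s t hs ht
  rw [add_dotProduct, smul_dotProduct] at hs ht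
  exact line_subsingleton h s t hs ht

/-- A functional separating a vector from a subspace. -/
theorem exists_sep {P : Submodule F (Fin m → F)} {v : Fin m → F} (hv : v ∉ P) :
    ∃ φ : Fin m → F, φ ⬝ᵥ v ≠ 0 ∧ ∀ x ∈ P, φ ⬝ᵥ x = 0 := by
  obtain ⟨f, hfv, hfP⟩ := Submodule.exists_le_ker_of_notMem hv
  refine ⟨(dotProductEquiv F (Fin m)).symm f, ?_, fun x hx => ?_⟩
  · rw [← dotProductEquiv_apply_apply, LinearEquiv.apply_symm_apply]; exact hfv
  · rw [← dotProductEquiv_apply_apply, LinearEquiv.apply_symm_apply]; exact LinearMap.mem_ker.1 (hfP hx)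

/-- An affine functional avoiding three vectors. -/
theorem exists_affine (hF : Four F) {e w : Fin m → F} (he : e ∉ Submodule.span F {w}) (v1 v2 v3 : Fin m → F)
    (h1 : v1 ∉ Submodule.span F {w}) (h2 : v2 ∉ Submodule.span F {w}) (h3 : v3 ∉ Submodule.span F {w}) :
    ∃ φ : Fin m → F, φ ⬝ᵥ e = 1 ∧ φ ⬝ᵥ w = 0 ∧ φ ⬝ᵥ v1 ≠ 0 ∧ φ ⬝ᵥ v2 ≠ 0 ∧ φ ⬝ᵥ v3 ≠ 0 := by
  obtain ⟨f, hfe, hfw⟩ := exists_sep he
  set ψ₀ := (f ⬝ᵥ e)⁻¹ • f with hψ₀
  have h0e : ψ₀ ⬝ᵥ e = 1 := by rw [hψ₀, smul_dotProduct, smul_eq_mul, inv_mul_cancel₀ hfe]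
  have h0w : ψ₀ ⬝ᵥ w = 0 := by rw [hψ₀, smul_dotProduct, hfw w (Submodule.mem_span_singleton_self w), smul_zero]
  have single : ∀ v, v ∉ Submodule.span F {w} → ∃ φ : Fin m → F, φ ⬝ᵥ e = 1 ∧ φ ⬝ᵥ w = 0 ∧ φ ⬝ᵥ v ≠ 0 := by
    intro v hv
    by_cases hz : ψ₀ ⬝ᵥ v = 0
    · have hvP : v ∉ Submodule.span F {e, w} := by
        intro h
        obtain ⟨a, b, rfl⟩ := Submodule.mem_span_pair.1 h
        rw [dotProduct_add, dotProduct_smul, dotProduct_smul, h0e, h0w, smul_zero, add_zero, smul_eq_mul, mul_one] at hz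
        rw [hz, zero_smul, zero_add] at hv
        exact hv (Submodule.smul_mem _ _ (Submodule.mem_span_singleton_self w))
      obtain ⟨g, hgv, hgP⟩ := exists_sep hvP
      refine ⟨ψ₀ + g, ?_, ?_, ?_⟩
      · rw [add_dotProduct, h0e, hgP e (Submodule.subset_span (by simp)), add_zero]
      · rw [add_dotProduct, h0w, hgP w (Submodule.subset_span (by simp)), add_zero]
      · rw [add_dotProduct, hz, zero_add]; exact hgv
    · exact ⟨ψ₀, h0e, h0w, hz⟩
  obtain ⟨a, hae, haw, hav⟩ := single v1 h1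
  have combine : ∀ a b : Fin m → F, ∀ x y z : Fin m → F, a ⬝ᵥ e = 1 → a ⬝ᵥ w = 0 → b ⬝ᵥ e = 1 → b ⬝ᵥ w = 0 →
      (a ⬝ᵥ x ≠ 0 ∨ b ⬝ᵥ x ≠ 0) → (a ⬝ᵥ y ≠ 0 ∨ b ⬝ᵥ y ≠ 0) → (a ⬝ᵥ z ≠ 0 ∨ b ⬝ᵥ z ≠ 0) →
      ∃ φ : Fin m → F, φ ⬝ᵥ e = 1 ∧ φ ⬝ᵥ w = 0 ∧ φ ⬝ᵥ x ≠ 0 ∧ φ ⬝ᵥ y ≠ 0 ∧ φ ⬝ᵥ z ≠ 0 := by
    intro a b x y z hae haw hbe hbw hx hy hz
    have key : ∀ u, (a ⬝ᵥ u ≠ 0 ∨ b ⬝ᵥ u ≠ 0) → a ⬝ᵥ u ≠ 0 ∨ (b - a) ⬝ᵥ u ≠ 0 := by
      intro u hu
      by_cases h : a ⬝ᵥ u = 0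
      · rw [sub_dotProduct, h, sub_zero]; exact Or.inr (hu.resolve_left (not_not_intro h))
      · exact Or.inl h
    obtain ⟨t, ht1, ht2, ht3⟩ := avoid hF _ _ _ (dot_subsingleton (key x hx)) (dot_subsingleton (key y hy))
      (dot_subsingleton (key z hz))
    refine ⟨a + t • (b - a), ?_, ?_, ht1, ht2, ht3⟩
    · rw [add_dotProduct, smul_dotProduct, sub_dotProduct, hae, hbe, sub_self, smul_zero, add_zero]
    · rw [add_dotProduct, smul_dotProduct, sub_dotProduct, haw, hbw, sub_self, smul_zero, add_zero]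
  obtain ⟨b, hbe, hbw, hbv⟩ := single v2 h2
  obtain ⟨c, hce, hcw, hc1, hc2, -⟩ := combine a b v1 v2 v2 hae haw hbe hbw (Or.inl hav) (Or.inr hbv) (Or.inr hbv)
  obtain ⟨d, hde, hdw, hdv⟩ := single v3 h3
  exact combine c d v1 v2 v3 hce hcw hde hdw (Or.inl hc1) (Or.inl hc2) (Or.inr hdv)

/-! ### Vectors of full order -/

/-- The annihilator of `e` is the annihilator of `R`. -/
def Full (R : Matrix (Fin m) (Fin m) F) (e : Fin m → F) : Prop :=
  ∀ q : F[X], aeval R q *ᵥ e = 0 → aeval R q = 0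

theorem aeval_mulVec_eigen (R : Matrix (Fin m) (Fin m) F) {x : Fin m → F} {ν : F} (hx : R *ᵥ x = ν • x) (q : F[X]) :
    aeval R q *ᵥ x = q.eval ν • x := by
  induction q using Polynomial.induction_on' with
  | add p q hp hq => rw [map_add, add_mulVec, hp, hq, eval_add, add_smul]
  | monomial k a =>
    rw [aeval_monomial, eval_monomial, ← Algebra.smul_def, smul_mulVec, mul_smul]
    congr 1
    induction k with
    | zero => simp
    | succ k ih => rw [pow_succ, ← mulVec_mulVec, hx, mulVec_smul, ih, smul_smul, mul_comm, ← pow_succ]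

/-- A vector of full order avoiding two hyperplanes. -/
theorem exists_full (hF : Four F) (R : Matrix (Fin (m + 1)) (Fin (m + 1)) F) (f g : Fin (m + 1) → F) (hf : f ≠ 0) (hg : g ≠ 0) :
    ∃ e, Full R e ∧ f ⬝ᵥ e ≠ 0 ∧ g ⬝ᵥ e ≠ 0 := by
  classical
  set M := minpoly F R
  have hM0 : M ≠ 0 := minpoly.ne_zero (Algebra.IsIntegral.isIntegral R)
  have hMd : 0 < M.natDegree := minpoly.natDegree_pos (Algebra.IsIntegral.isIntegral R)
  set P : Finset F[X] := (UniqueFactorizationMonoid.normalizedFactors M).toFinset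
  have hP : ∀ p ∈ P, p ∈ UniqueFactorizationMonoid.normalizedFactors M := fun p hp => Multiset.mem_toFinset.1 hp
  have hPirr : ∀ p ∈ P, Irreducible p := fun p hp => UniqueFactorizationMonoid.irreducible_of_normalized_factor p (hP p hp)
  have hPdvd : ∀ p ∈ P, p ∣ M := fun p hp => UniqueFactorizationMonoid.dvd_of_mem_normalizedFactors (hP p hp)
  choose! q hq using hPdvd
  have hq0 : ∀ p ∈ P, aeval R (q p) ≠ 0 := by
    intro p hp h
    have h1 := minpoly.dvd F R h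
    have hqne : q p ≠ 0 := fun e => hM0 (by rw [hq p hp, e, mul_zero])
    have h2 : IsUnit p := by
      have h3 : p * q p ∣ 1 * q p := by rw [← hq p hp, one_mul]; exact h1
      exact isUnit_of_dvd_one ((mul_dvd_mul_iff_right hqne).1 h3)
    exact (hPirr p hp).not_isUnit h2
  have hFull : ∀ x, (∀ p ∈ P, aeval R (q p) *ᵥ x ≠ 0) → Full R x := by
    intro x hx r hr
    by_contra hne
    obtain ⟨d, hd, hdM, hdr⟩ : ∃ d, aeval R d *ᵥ x = 0 ∧ d ∣ M ∧ d ∣ r := by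
      refine ⟨EuclideanDomain.gcd M r, ?_, EuclideanDomain.gcd_dvd_left _ _, EuclideanDomain.gcd_dvd_right _ _⟩
      rw [EuclideanDomain.gcd_eq_gcd_ab, map_add, mul_comm M, mul_comm r, map_mul, map_mul,
        show aeval R M = 0 from minpoly.aeval F R, mul_zero, zero_add, ← mulVec_mulVec, hr, mulVec_zero]
    obtain ⟨h, hh⟩ := hdM
    have hnu : ¬ IsUnit h := by
      intro hu
      obtain ⟨k, hk⟩ := hdr
      apply hne
      have : M ∣ r := hh ▸ hk ▸ mul_dvd_mul_left d hu.dvd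
      obtain ⟨l, hl⟩ := this
      rw [hl, map_mul, show aeval R M = 0 from minpoly.aeval F R, zero_mul]
    obtain ⟨π, hπ, hπh⟩ := WfDvdMonoid.exists_irreducible_factor hnu (fun e => hM0 (by rw [hh, e, mul_zero]))
    obtain ⟨p, hp, hpa⟩ := UniqueFactorizationMonoid.exists_mem_normalizedFactors_of_dvd hM0 hπ (hπh.trans ⟨d, by rw [hh, mul_comm]⟩)
    have hpP : p ∈ P := Multiset.mem_toFinset.2 hp
    obtain ⟨l, hl⟩ := hpa.symm.dvd.trans hπh
    have hqd : q p = d * l := mul_left_cancel₀ (hPirr p hpP).ne_zero (by rw [← hq p hpP, hh, hl]; ring)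
    exact hx p hpP (by rw [hqd, mul_comm, map_mul, ← mulVec_mulVec, hd, mulVec_zero])
  have hne : P.Nonempty := by
    obtain ⟨π, hπ, hπM⟩ := WfDvdMonoid.exists_irreducible_factor
      (fun hu : IsUnit M => hMd.ne' (Polynomial.natDegree_eq_zero_of_isUnit hu)) hM0
    obtain ⟨p, hp, -⟩ := UniqueFactorizationMonoid.exists_mem_normalizedFactors_of_dvd hM0 hπ hπM
    exact ⟨p, Multiset.mem_toFinset.2 hp⟩
  obtain ⟨μ, hμ⟩ := (exists_sum_eq_one_iff_pairwise_coprime (s := fun p : F[X] => p) hne).2 (by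
    rintro ⟨i, hi⟩ ⟨j, hj⟩ hij
    refine ((hPirr i hi).coprime_iff_not_dvd).2 fun hdvd => hij (Subtype.ext ?_)
    have h1 := (hPirr i hi).associated_of_dvd (hPirr j hj) hdvd
    exact ((UniqueFactorizationMonoid.normalize_normalized_factor i (hP i hi)).symm.trans
      (normalize_eq_normalize h1.dvd h1.symm.dvd)).trans (UniqueFactorizationMonoid.normalize_normalized_factor j (hP j hj)))
  set comp : F[X] → (Fin (m + 1) → F) → (Fin (m + 1) → F) := fun p v => aeval R (μ p * ∏ j ∈ P \ {p}, j) *ᵥ v with hcomp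
  have hsum : ∀ v, ∑ p ∈ P, comp p v = v := by
    intro v
    rw [← Matrix.sum_mulVec, ← map_sum, hμ, map_one, one_mulVec]
  have hkill : ∀ j ∈ P, ∀ p ∈ P, j ≠ p → ∀ v, aeval R (q j) *ᵥ comp p v = 0 := by
    intro j hj p hp hjp v
    obtain ⟨k, hk⟩ := Finset.dvd_prod_of_mem (fun i : F[X] => i) (Finset.mem_sdiff.2 ⟨hj, by simpa using hjp⟩ : j ∈ P \ {p})
    rw [hcomp]
    simp only
    rw [mulVec_mulVec, ← map_mul, hk, show q j * (μ p * (j * k)) = (j * q j) * (μ p * k) by ring, ← hq j hj,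
      map_mul, show aeval R M = 0 from minpoly.aeval F R, zero_mul, zero_mulVec]
  -- one vector of full order
  have hy : ∀ p ∈ P, ∃ v, aeval R (q p) *ᵥ comp p v ≠ 0 := by
    intro p hp
    obtain ⟨v, hv⟩ : ∃ v, aeval R (q p) *ᵥ v ≠ 0 := by
      by_contra h
      push Not at h
      exact hq0 p hp (ext_of_mulVec_single fun j => by rw [h, zero_mulVec])
    refine ⟨v, fun h => hv ?_⟩
    conv_lhs => rw [← hsum v]
    rw [mulVec_sum, Finset.sum_eq_single p (fun i hi hip => hkill p hp i hi hip.symm v) (fun h' => absurd hp h'), h]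
  choose! y hy using hy
  set x₀ := ∑ p ∈ P, comp p (y p)
  have hx₀ : ∀ p ∈ P, aeval R (q p) *ᵥ x₀ ≠ 0 := by
    intro p hp
    rw [mulVec_sum, Finset.sum_eq_single p (fun i hi hip => hkill p hp i hi hip.symm _) (fun h' => absurd hp h')]
    exact hy p hp
  -- moving off a hyperplane
  have step : ∀ (g f : Fin (m + 1) → F) x, g ≠ 0 → (∀ p ∈ P, aeval R (q p) *ᵥ x ≠ 0) →
      ∃ z, (∀ p ∈ P, aeval R (q p) *ᵥ z ≠ 0) ∧ g ⬝ᵥ z ≠ 0 ∧ (f ⬝ᵥ x ≠ 0 → f ⬝ᵥ z ≠ 0) := by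
    intro g f x hg hx
    obtain ⟨p, hp, v, hv⟩ : ∃ p ∈ P, ∃ v, g ⬝ᵥ comp p v ≠ 0 := by
      by_contra h
      push Not at h
      exact hg (dotProduct_eq_zero g fun v => by
        rw [← hsum v, dotProduct_sum]; exact Finset.sum_eq_zero fun p hp => h p hp v)
    obtain ⟨t, h1, h2, h3⟩ := avoid hF (fun t => aeval R (q p) *ᵥ x + t • (aeval R (q p) *ᵥ comp p v) = 0)
      (fun t => g ⬝ᵥ x + t • (g ⬝ᵥ comp p v) = 0) (fun t => f ⬝ᵥ x ≠ 0 ∧ f ⬝ᵥ x + t • (f ⬝ᵥ comp p v) = 0)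
      (line_subsingleton (Or.inl (hx p hp))) (line_subsingleton (Or.inr hv))
      (fun s t hs ht => line_subsingleton (Or.inl hs.1) s t hs.2 ht.2)
    refine ⟨x + t • comp p v, fun j hj => ?_, ?_, fun hfx h => h3 ⟨hfx, ?_⟩⟩
    · rw [mulVec_add, mulVec_smul]
      rcases eq_or_ne j p with rfl | hjp
      · exact h1
      · rw [hkill j hj p hp hjp, smul_zero, add_zero]; exact hx j hj
    · rw [dotProduct_add, dotProduct_smul]; exact h2
    · rw [← h, dotProduct_add, dotProduct_smul]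
  obtain ⟨x₁, hx₁, hfx₁, -⟩ := step f f x₀ hf hx₀
  obtain ⟨x₂, hx₂, hgx₂, hfx₂⟩ := step g f x₁ hg hx₁
  exact ⟨x₂, hFull x₂ hx₂, hfx₂ hfx₁, hgx₂⟩

end Cfsg.Lib.RegularProduct
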