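import Cfsg.Agent.Known.RegularProduct.Pick

/-!
One step of the factorisation `L * U` with regular unipotent triangular factors.
-/

set_option autoImplicit false
set_option linter.style.haveILetI false
set_option maxHeartbeats 1000000

namespace Cfsg.Lib.RegularProduct

open Matrix

variable {F : Type*} [Field F] {m k : ℕ}

/-- A functional nonzero on two given vectors. -/
theorem exists_dot_both {u u' : Fin m → F} (hu : u ≠ 0) (hu' : u' ≠ 0) : ∃ h, h ⬝ᵥ u ≠ 0 ∧ h ⬝ᵥ u' ≠ 0 := by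
  obtain ⟨a, ha, -⟩ := exists_sep (P := ⊥) (show u ∉ (⊥ : Submodule F (Fin m → F)) by simpa using hu)
  obtain ⟨b, hb, -⟩ := exists_sep (P := ⊥) (show u' ∉ (⊥ : Submodule F (Fin m → F)) by simpa using hu')
  by_cases h1 : a ⬝ᵥ u' = 0
  · by_cases h2 : b ⬝ᵥ u = 0
    · exact ⟨a + b, by rw [add_dotProduct, h2, add_zero]; exact ha, by rw [add_dotProduct, h1, zero_add]; exact hb⟩
    · exact ⟨b, h2, hb⟩
  · exact ⟨a, ha, h1⟩

theorem det_one_add_vec (u v : Fin m → F) : (1 + vecMulVec u v).det = 1 + v ⬝ᵥ u := by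
  rw [vecMulVec_eq Unit, det_one_add_replicateCol_mul_replicateRow]

/-- Transitivity on vector-functional pairs. -/
theorem pair_conj (u u' f f' : Fin m → F) (hu : u ≠ 0) (hu' : u' ≠ 0) (hf : f ≠ 0) (hf' : f' ≠ 0)
    (he : f ⬝ᵥ u = f' ⬝ᵥ u') :
    ∃ P : GL (Fin m) F, (P : Matrix (Fin m) (Fin m) F) *ᵥ u = u' ∧ f' ᵥ* (P : Matrix (Fin m) (Fin m) F) = f := by
  obtain ⟨h, hh, hh'⟩ := exists_dot_both hu hu'
  set h1 := (h ⬝ᵥ u)⁻¹ • h with h1_def
  have h1u : h1 ⬝ᵥ u = 1 := by rw [h1_def, smul_dotProduct, smul_eq_mul, inv_mul_cancel₀ hh]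
  have h1u' : h1 ⬝ᵥ u' ≠ 0 := by rw [h1_def, smul_dotProduct, smul_eq_mul]; exact mul_ne_zero (inv_ne_zero hh) hh'
  let T : GL (Fin m) F := GeneralLinearGroup.mkOfDetNeZero (1 + vecMulVec (u' - u) h1) (by
    rw [det_one_add_vec, dotProduct_sub, h1u, add_sub_cancel]; exact h1u')
  have hT : (T : Matrix (Fin m) (Fin m) F) *ᵥ u = u' := by
    show (1 + vecMulVec (u' - u) h1) *ᵥ u = u'
    rw [add_mulVec, one_mulVec, vecMulVec_mulVec, h1u, MulOpposite.op_one, one_smul, add_sub_cancel]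
  set f2 := f ᵥ* ((T⁻¹ : GL (Fin m) F) : Matrix (Fin m) (Fin m) F) with hf2
  have hf2u : f2 ⬝ᵥ u' = f' ⬝ᵥ u' := by
    rw [hf2, ← dotProduct_mulVec]; conv_lhs => rw [← hT, mulVec_mulVec, Units.inv_mul, one_mulVec, he]
  have hf2T : f2 ᵥ* (T : Matrix (Fin m) (Fin m) F) = f := by
    rw [hf2, vecMul_vecMul, Units.inv_mul, vecMul_one]
  have hf2ne : f2 ≠ 0 := fun e0 => hf (by rw [← hf2T, e0, zero_vecMul])
  obtain ⟨z, hz, hz'⟩ := exists_dot_both hf' hf2ne
  rw [dotProduct_comm] at hz hz'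
  set z1 := (f' ⬝ᵥ z)⁻¹ • z with z1_def
  have hz1 : f' ⬝ᵥ z1 = 1 := by rw [z1_def, dotProduct_smul, smul_eq_mul, inv_mul_cancel₀ hz]
  have hz1' : f2 ⬝ᵥ z1 ≠ 0 := by rw [z1_def, dotProduct_smul, smul_eq_mul]; exact mul_ne_zero (inv_ne_zero hz) hz'
  let T2 : GL (Fin m) F := GeneralLinearGroup.mkOfDetNeZero (1 + vecMulVec z1 (f2 - f')) (by
    rw [det_one_add_vec, sub_dotProduct, hz1, add_sub_cancel]; exact hz1')
  refine ⟨T2 * T, ?_, ?_⟩
  · rw [Units.val_mul, ← mulVec_mulVec, hT]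
    show (1 + vecMulVec z1 (f2 - f')) *ᵥ u' = u'
    rw [add_mulVec, one_mulVec, vecMulVec_mulVec, sub_dotProduct, hf2u, sub_self, MulOpposite.op_zero, zero_smul, add_zero]
  · rw [Units.val_mul, ← vecMul_vecMul,
      show f' ᵥ* (T2 : Matrix (Fin m) (Fin m) F) = f2 from ?_, hf2T]
    show f' ᵥ* (1 + vecMulVec z1 (f2 - f')) = f2
    rw [vecMul_add, vecMul_one, vecMul_vecMulVec, hz1, one_smul, add_sub_cancel]

/-- A matrix by corner, first column, first row and rest. -/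
def ext (a : F) (c b : Fin k → F) (D : Matrix (Fin k) (Fin k) F) : Matrix (Fin (k + 1)) (Fin (k + 1)) F :=
  Matrix.of (Fin.cons (Fin.cons a b) fun i => Fin.cons (c i) (D i))

theorem ext_mul (a a' : F) (c b c' b' : Fin k → F) (D D' : Matrix (Fin k) (Fin k) F) :
    ext a c b D * ext a' c' b' D' =
      ext (a * a' + b ⬝ᵥ c') (a' • c + D *ᵥ c') (a • b' + b ᵥ* D') (vecMulVec c b' + D * D') := by
  apply Matrix.ext
  intro i j
  refine Fin.cases (Fin.cases ?_ (fun j => ?_) j) (fun i => Fin.cases ?_ (fun j => ?_) j) i <;>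
    simp [ext, Matrix.mul_apply, Fin.sum_univ_succ, dotProduct, mulVec, vecMul, vecMulVec_apply, mul_comm]

theorem ext_one : ext (k := k) (1 : F) 0 0 1 = 1 := by
  apply Matrix.ext
  intro i j
  refine Fin.cases (Fin.cases ?_ (fun j => ?_) j) (fun i => Fin.cases ?_ (fun j => ?_) j) i <;>
    simp [ext, Matrix.one_apply, Fin.succ_ne_zero, (Fin.succ_ne_zero _).symm]

theorem eq_ext (M : Matrix (Fin (k + 1)) (Fin (k + 1)) F) :
    M = ext (M 0 0) (fun i => M i.succ 0) (fun j => M 0 j.succ) (M.submatrix Fin.succ Fin.succ) := by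
  apply Matrix.ext
  intro i j
  refine Fin.cases (Fin.cases ?_ (fun j => ?_) j) (fun i => Fin.cases ?_ (fun j => ?_) j) i <;> simp [ext]

theorem det_ext_upper (a : F) (b : Fin k → F) (D : Matrix (Fin k) (Fin k) F) : (ext a 0 b D).det = a * D.det := by
  rw [det_succ_column_zero, Fin.sum_univ_succ]
  have : ∀ i : Fin k, ext a 0 b D i.succ 0 = 0 := fun i => by simp [ext]
  simp only [this, mul_zero, zero_mul, Finset.sum_const_zero, add_zero]
  rw [show (ext a 0 b D).submatrix (Fin.succAbove 0) Fin.succ = D from Matrix.ext fun i j => by simp [ext]]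
  simp [ext]

theorem det_ext_lower (a : F) (c : Fin k → F) (D : Matrix (Fin k) (Fin k) F) : (ext a c 0 D).det = a * D.det := by
  rw [← det_transpose, show (ext a c 0 D)ᵀ = ext a 0 c Dᵀ from ?_, det_ext_upper, det_transpose]
  apply Matrix.ext
  intro i j
  refine Fin.cases (Fin.cases ?_ (fun j => ?_) j) (fun i => Fin.cases ?_ (fun j => ?_) j) i <;> simp [ext]

/-- Regular lower unitriangular. -/
def Lrg (L : Matrix (Fin m) (Fin m) F) : Prop :=
  ∀ i j : Fin m, ((i : ℕ) < j → L i j = 0) ∧ L i i = 1 ∧ ((i : ℕ) = j + 1 → L i j ≠ 0)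

/-- Regular upper unitriangular. -/
def Urg (U : Matrix (Fin m) (Fin m) F) : Prop := Lrg Uᵀ

theorem lrg_ext {c : Fin (k + 1) → F} {L : Matrix (Fin (k + 1)) (Fin (k + 1)) F} (hc : c 0 ≠ 0) (hL : Lrg L) :
    Lrg (ext 1 c 0 L) := by
  intro i j
  refine ⟨?_, ?_, ?_⟩
  · intro h
    induction i using Fin.cases with
    | zero => induction j using Fin.cases with
      | zero => simp at h
      | succ j => simp [ext]
    | succ i => induction j using Fin.cases with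
      | zero => simp at h
      | succ j => simp only [Fin.val_succ] at h; simpa [ext] using (hL i j).1 (by omega)
  · induction i using Fin.cases with
    | zero => simp [ext]
    | succ i => simpa [ext] using (hL i i).2.1
  · intro h
    induction i using Fin.cases with
    | zero => simp at h
    | succ i => induction j using Fin.cases with
      | zero =>
        simp only [Fin.val_succ, Fin.val_zero] at h
        have : i = 0 := Fin.ext (by simpa using h)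
        subst this
        simpa [ext] using hc
      | succ j => simp only [Fin.val_succ] at h; simpa [ext] using (hL i j).2.2 (by omega)

theorem urg_ext {b : Fin (k + 1) → F} {U : Matrix (Fin (k + 1)) (Fin (k + 1)) F} (hb : b 0 ≠ 0) (hU : Urg U) :
    Urg (ext 1 0 b U) := by
  show Lrg _
  rw [show (ext 1 0 b U)ᵀ = ext 1 b 0 Uᵀ from ?_]
  · exact lrg_ext hb hU
  apply Matrix.ext
  intro i j
  refine Fin.cases (Fin.cases ?_ (fun j => ?_) j) (fun i => Fin.cases ?_ (fun j => ?_) j) i <;> simp [ext]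

/-- The factorisation, with a prescribed column and row. -/
def LU (R : Matrix (Fin (k + 1)) (Fin (k + 1)) F) (c b : Fin (k + 1) → F) : Prop :=
  ∃ (P : GL (Fin (k + 1)) F) (L U : Matrix (Fin (k + 1)) (Fin (k + 1)) F), Lrg L ∧ Urg U ∧
    (P : Matrix (Fin (k + 1)) (Fin (k + 1)) F) * R * ((P⁻¹ : GL (Fin (k + 1)) F) : Matrix (Fin (k + 1)) (Fin (k + 1)) F) = L * U ∧
    ((P : Matrix (Fin (k + 1)) (Fin (k + 1)) F) *ᵥ c) 0 ≠ 0 ∧
    (b ᵥ* ((P⁻¹ : GL (Fin (k + 1)) F) : Matrix (Fin (k + 1)) (Fin (k + 1)) F)) 0 ≠ 0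

/-- One step. -/
theorem reduce (R : Matrix (Fin (k + 2)) (Fin (k + 2)) F) (hR : R.det = 1) (e φ c b : Fin (k + 2) → F)
    (h1 : φ ⬝ᵥ e = 1) (h2 : φ ⬝ᵥ (R *ᵥ e) = 1) (h3 : φ ⬝ᵥ c ≠ 0) (h4 : b ⬝ᵥ e ≠ 0) (h5 : φ ᵥ* R ≠ φ) (h6 : R *ᵥ e ≠ e) :
    ∃ (R' : Matrix (Fin (k + 1)) (Fin (k + 1)) F) (c' b' : Fin (k + 1) → F), R'.det = 1 ∧ c' ≠ 0 ∧ b' ≠ 0 ∧
      (LU R' c' b' → LU R c b) ∧
      (∀ (μ : F) (u f : Fin (k + 1) → F), 0 < k → R' = μ • (1 : Matrix _ _ F) + vecMulVec u f →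
        ∃ (ν : F) (z : Fin (k + 2) → F), ν ≠ 0 ∧ (u = 0 → z = 0) ∧ ∀ x, φ ⬝ᵥ x = 0 → R⁻¹ *ᵥ x - ν • x ∈ Submodule.span F {e, z}) ∧
      (∀ x, R' *ᵥ x = x → x ≠ 0 → ∃ v, v ≠ 0 ∧ φ ⬝ᵥ v = 0 ∧ R⁻¹ *ᵥ v - v ∈ Submodule.span F {e}) := by
  classical
  have he : e ≠ 0 := fun h => by rw [h, dotProduct_zero] at h1; exact one_ne_zero h1.symm
  have hφ : φ ≠ 0 := fun h => by rw [h, zero_dotProduct] at h1; exact one_ne_zero h1.symm
  set e0 : Fin (k + 2) → F := Pi.single 0 1 with he0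
  have he0ne : e0 ≠ 0 := fun h => by simpa [he0] using congrFun h 0
  obtain ⟨P, hPe, hPφ⟩ := pair_conj e e0 φ e0 he he0ne hφ he0ne (by rw [h1, he0, single_dotProduct]; simp)
  set Pm := (P : Matrix (Fin (k + 2)) (Fin (k + 2)) F) with hPm
  set Pi' := ((P⁻¹ : GL (Fin (k + 2)) F) : Matrix (Fin (k + 2)) (Fin (k + 2)) F) with hPi
  have hPP : Pi' * Pm = 1 := P.inv_mul
  have hPP' : Pm * Pi' = 1 := P.mul_inv
  have hPie : Pi' *ᵥ e0 = e := by rw [← hPe, mulVec_mulVec, hPP, one_mulVec]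
  have hrow : ∀ x, (Pm *ᵥ x) 0 = φ ⬝ᵥ x := fun x => by
    rw [← hPφ, ← dotProduct_mulVec, he0, single_one_dotProduct]
  have hφPi : φ ᵥ* Pi' = e0 := by rw [← hPφ, vecMul_vecMul, hPP', vecMul_one]
  set M := Pm * R * Pi' with hM
  have hM00 : M 0 0 = 1 := by
    have : M 0 0 = (M *ᵥ e0) 0 := by rw [he0, mulVec_single_one]; rfl
    rw [this, hM, ← mulVec_mulVec, hPie, ← mulVec_mulVec, hrow, h2]
  set c' : Fin (k + 1) → F := fun i => M i.succ 0 with hc'
  set b' : Fin (k + 1) → F := fun j => M 0 j.succ with hb'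
  set R' := M.submatrix Fin.succ Fin.succ - vecMulVec c' b' with hR'
  have hMe : M = ext 1 c' b' (vecMulVec c' b' + R') := by
    rw [hR', add_sub_cancel]
    conv_lhs => rw [eq_ext M]
    rw [hM00]
  have hfac : M = ext 1 c' 0 1 * ext 1 0 b' R' := by
    rw [ext_mul, hMe]; simp
  have hMdet : M.det = 1 := by
    rw [hM, det_mul, det_mul, hR, mul_one, ← det_mul, hPP', det_one]
  have hR'det : R'.det = 1 := by
    have h := hMdet
    rw [hfac, det_mul, det_ext_lower, det_ext_upper, det_one] at h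
    simpa using h
  have hR'u : IsUnit R'.det := by rw [hR'det]; exact isUnit_one
  have hRu : IsUnit R.det := by rw [hR]; exact isUnit_one
  have hMinv : M⁻¹ = Pm * R⁻¹ * Pi' := by
    refine inv_eq_right_inv ?_
    rw [hM]
    calc Pm * R * Pi' * (Pm * R⁻¹ * Pi') = Pm * R * (Pi' * Pm) * R⁻¹ * Pi' := by simp only [mul_assoc]
      _ = 1 := by rw [hPP, mul_one, mul_assoc Pm R, mul_nonsing_inv R hRu, mul_one, hPP']
  obtain ⟨a, cc, bb, hinv⟩ : ∃ a cc bb, M⁻¹ = ext a cc bb R'⁻¹ := by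
    have h : M⁻¹ = ext 1 0 (-(b' ᵥ* R'⁻¹)) R'⁻¹ * ext 1 (-c') 0 1 := by
      refine inv_eq_right_inv ?_
      rw [hfac]
      calc ext 1 c' 0 1 * ext 1 0 b' R' * (ext 1 0 (-(b' ᵥ* R'⁻¹)) R'⁻¹ * ext 1 (-c') 0 1)
          = ext 1 c' 0 1 * (ext 1 0 b' R' * ext 1 0 (-(b' ᵥ* R'⁻¹)) R'⁻¹) * ext 1 (-c') 0 1 := by simp only [mul_assoc]
        _ = ext 1 c' 0 1 * ext 1 (-c') 0 1 := by
            rw [show ext 1 0 b' R' * ext 1 0 (-(b' ᵥ* R'⁻¹)) R'⁻¹ = 1 from ?_, mul_one]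
            rw [ext_mul, ← ext_one]
            simp [mul_nonsing_inv R' hR'u]
        _ = 1 := by rw [ext_mul]; simp [ext_one]
    rw [h, ext_mul]
    simp only [vecMulVec_zero, mul_one, zero_add]
    exact ⟨_, _, _, rfl⟩
  -- vectors killed by `φ`
  have key : ∀ x, φ ⬝ᵥ x = 0 → ∃ (y : Fin (k + 1) → F) (s : F),
      Pm *ᵥ x = Fin.cons 0 y ∧ Pm *ᵥ (R⁻¹ *ᵥ x) = Fin.cons s (R'⁻¹ *ᵥ y) := by
    intro x hx
    obtain ⟨y, hy⟩ : ∃ y, Pm *ᵥ x = Fin.cons 0 y :=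
      ⟨Fin.tail (Pm *ᵥ x), by rw [← hx, ← hrow x]; exact (Fin.cons_self_tail _).symm⟩
    refine ⟨y, bb ⬝ᵥ y, hy, ?_⟩
    have hswap : Pm *ᵥ (R⁻¹ *ᵥ x) = M⁻¹ *ᵥ (Pm *ᵥ x) := by
      rw [hMinv, mulVec_mulVec, mulVec_mulVec, mul_assoc, mul_assoc, hPP, mul_one]
    rw [hswap, hy, hinv]
    refine funext fun i => Fin.cases ?_ (fun i => ?_) i
    · simp [ext, mulVec, dotProduct, Fin.sum_univ_succ]
    · simp [ext, mulVec, dotProduct, Fin.sum_univ_succ]
  have split : ∀ (s : F) (w : Fin (k + 1) → F), Pi' *ᵥ (Fin.cons s w) = s • e + Pi' *ᵥ (Fin.cons 0 w) := by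
    intro s w
    rw [← hPie, ← mulVec_smul, ← mulVec_add]
    congr 1
    refine funext fun i => Fin.cases ?_ (fun i => ?_) i <;> simp [he0, Fin.succ_ne_zero]
  refine ⟨R', c', b', hR'det, ?_, ?_, ?_, ?_, ?_⟩
  · intro h
    apply h6
    have : M *ᵥ e0 = e0 := by
      rw [he0, mulVec_single_one]
      refine funext fun i => Fin.cases ?_ (fun i => ?_) i
      · simpa [col] using hM00
      · simpa [col, hc', Fin.succ_ne_zero] using congrFun h i
    rw [hM, ← mulVec_mulVec, hPie, ← mulVec_mulVec] at this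
    have h' := congrArg (fun w => Pi' *ᵥ w) this
    simp only [mulVec_mulVec, ← mul_assoc, hPP, one_mul] at h'
    rwa [hPie] at h'
  · intro h
    apply h5
    have h0 : e0 ᵥ* M = e0 := by
      rw [he0, single_one_vecMul]
      refine funext fun j => Fin.cases ?_ (fun j => ?_) j
      · simpa [row] using hM00
      · simpa [row, hb', Fin.succ_ne_zero] using congrFun h j
    have h' := congrArg (fun w => w ᵥ* Pm) h0
    simp only [hM, vecMul_vecMul, mul_assoc, hPP, mul_one] at h'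
    rw [← vecMul_vecMul, hPφ] at h'
    exact h'
  · rintro ⟨Q, L, U, hL, hU, hQ, hQc, hQb⟩
    set Qm := (Q : Matrix (Fin (k + 1)) (Fin (k + 1)) F)
    set Qi := ((Q⁻¹ : GL (Fin (k + 1)) F) : Matrix (Fin (k + 1)) (Fin (k + 1)) F)
    let E : GL (Fin (k + 2)) F :=
      ⟨ext 1 0 0 Qm, ext 1 0 0 Qi, by rw [ext_mul, ← ext_one]; simp [Qm, Qi],
        by rw [ext_mul, ← ext_one]; simp [Qm, Qi]⟩
    refine ⟨E * P, ext 1 (Qm *ᵥ c') 0 L, ext 1 0 (b' ᵥ* Qi) U, lrg_ext hQc hL, urg_ext hQb hU, ?_, ?_, ?_⟩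
    · rw [_root_.mul_inv_rev, Units.val_mul, Units.val_mul]
      show ext 1 0 0 Qm * Pm * R * (Pi' * ext 1 0 0 Qi) = _
      calc ext 1 0 0 Qm * Pm * R * (Pi' * ext 1 0 0 Qi) = ext 1 0 0 Qm * (Pm * R * Pi') * ext 1 0 0 Qi := by
            simp only [mul_assoc]
        _ = _ := by
          rw [← hM, hMe, ext_mul, ext_mul, ext_mul]
          simp only [one_mul, zero_dotProduct, dotProduct_zero, add_zero, zero_add, one_smul, smul_zero, mulVec_zero,
            zero_vecMul, vecMulVec_zero, zero_vecMulVec]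
          congr 1
          rw [mul_add, add_mul, hQ, mul_vecMulVec, vecMulVec_mul]
    · rw [Units.val_mul, ← mulVec_mulVec]
      show (ext 1 0 0 Qm *ᵥ (Pm *ᵥ c)) 0 ≠ 0
      rw [show (ext 1 0 0 Qm *ᵥ (Pm *ᵥ c)) 0 = (Pm *ᵥ c) 0 by simp [ext, mulVec, dotProduct, Fin.sum_univ_succ], hrow]
      exact h3
    · rw [_root_.mul_inv_rev, Units.val_mul, ← vecMul_vecMul]
      show (b ᵥ* Pi' ᵥ* ext 1 0 0 Qi) 0 ≠ 0
      rw [show (b ᵥ* Pi' ᵥ* ext 1 0 0 Qi) 0 = (b ᵥ* Pi') 0 by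
        generalize b ᵥ* Pi' = w
        simp [ext, vecMul, dotProduct, Fin.sum_univ_succ],
        show (b ᵥ* Pi') 0 = (b ᵥ* Pi') ⬝ᵥ e0 by rw [he0, dotProduct_single_one], ← dotProduct_mulVec, hPie]
      exact h4
  · intro μ u f hk hμ
    have hμ0 : μ ≠ 0 := by
      rintro rfl
      rw [zero_smul, zero_add] at hμ
      haveI : Nontrivial (Fin (k + 1)) := Fin.nontrivial_iff_two_le.2 (by omega)
      rw [hμ, det_vecMulVec] at hR'det
      exact one_ne_zero hR'det.symm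
    have hmul : μ • R'⁻¹ = 1 - vecMulVec (R'⁻¹ *ᵥ u) f := by
      have h := nonsing_inv_mul R' hR'u
      nth_rw 2 [hμ] at h
      rw [mul_add, mul_smul_comm, mul_one, mul_vecMulVec] at h
      exact eq_sub_of_add_eq h
    refine ⟨μ⁻¹, Pi' *ᵥ (Fin.cons 0 (R'⁻¹ *ᵥ u)), inv_ne_zero hμ0, ?_, ?_⟩
    · rintro rfl
      rw [mulVec_zero, show (Fin.cons 0 0 : Fin (k + 2) → F) = 0 from funext fun i => Fin.cases rfl (fun _ => rfl) i,
        mulVec_zero]
    intro x hx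
    obtain ⟨y, s, hy, hy'⟩ := key x hx
    have hdy : R'⁻¹ *ᵥ y - μ⁻¹ • y = (-μ⁻¹ * (f ⬝ᵥ y)) • (R'⁻¹ *ᵥ u) := by
      have h := congrArg (fun A => μ⁻¹ • (A *ᵥ y)) hmul
      simp only [smul_mulVec, sub_mulVec, one_mulVec, vecMulVec_mulVec, op_smul_eq_smul, smul_sub, smul_smul,
        inv_mul_cancel₀ hμ0, one_smul] at h
      rw [h, neg_mul, neg_smul]; abel
    have hPx : Pm *ᵥ (R⁻¹ *ᵥ x - μ⁻¹ • x) = Fin.cons s ((-μ⁻¹ * (f ⬝ᵥ y)) • (R'⁻¹ *ᵥ u)) := by
      rw [mulVec_sub, mulVec_smul, hy, hy', ← hdy]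
      refine funext fun i => Fin.cases ?_ (fun i => ?_) i <;> simp
    have hx' := congrArg (fun w => Pi' *ᵥ w) hPx
    simp only [mulVec_mulVec (M := Pi') (N := Pm), hPP, one_mulVec] at hx'
    rw [hx', split s]
    rw [show (Fin.cons 0 ((-μ⁻¹ * (f ⬝ᵥ y)) • (R'⁻¹ *ᵥ u)) : Fin (k + 2) → F) =
      (-μ⁻¹ * (f ⬝ᵥ y)) • Fin.cons 0 (R'⁻¹ *ᵥ u) from funext fun i => Fin.cases (by simp) (fun i => by simp) i,
      mulVec_smul]
    exact Submodule.mem_span_pair.2 ⟨s, _, rfl⟩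
  · intro y hy hy0
    refine ⟨Pi' *ᵥ Fin.cons 0 y, fun h => hy0 ?_, ?_, ?_⟩
    · have h' := congrArg (fun w => Pm *ᵥ w) h
      simp only [mulVec_mulVec, hPP', one_mulVec, mulVec_zero] at h'
      exact funext fun i => by simpa using congrFun h' i.succ
    · rw [dotProduct_mulVec, hφPi, he0, single_one_dotProduct]; simp
    · obtain ⟨y', s, hy1, hy2⟩ := key (Pi' *ᵥ Fin.cons 0 y) (by rw [dotProduct_mulVec, hφPi, he0, single_one_dotProduct]; simp)
      rw [mulVec_mulVec, hPP', one_mulVec] at hy1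
      have hyy : y' = y := funext fun i => by simpa using (congrFun hy1 i.succ).symm
      subst hyy
      have hfix : R'⁻¹ *ᵥ y' = y' := by
        conv_lhs => rw [← hy, mulVec_mulVec, nonsing_inv_mul R' hR'u, one_mulVec]
      rw [hfix] at hy2
      have hx' := congrArg (fun w => Pi' *ᵥ w) hy2
      simp only [mulVec_mulVec (M := Pi') (N := Pm), hPP, one_mulVec] at hx'
      rw [hx', split, add_sub_cancel_right]
      exact Submodule.smul_mem _ _ (Submodule.mem_span_singleton_self e)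

end Cfsg.Lib.RegularProduct
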